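import Groth.Agent.CMReg7.Main
import Groth.Agent.ProjGen7.FlatBase
import Groth.Agent.PerfLocus7.RelTor
import Groth.Agent.CohPullLib.BC0
import Groth.Agent.CohPullLib.NbhdRank
import Groth.Agent.KFlatLib.Scheme.RpushQCoh

/-!
# Direct images of vector bundles without higher direct images
-/

set_option autoImplicit false
set_option linter.style.haveILetI false
universe u
open CategoryTheory CategoryTheory.Limits AlgebraicGeometry
attribute [local instance] HasDerivedCategory.standard

namespace Groth.Agent.CMReg7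

open Groth.Agent

variable {n : ℕ} {T : Scheme.{u}}

theorem isFinLocFree_push_pr {F : (KRR.PY n T).Modules} (hF : FlatMod.IsFinLocFree F)
    (hvan : ∀ i, 1 ≤ i → IsZero ((Coh.RpushAb (KRR.pr n T) i).obj (Coh.toAb F))) :
    FlatMod.IsFinLocFree ((Scheme.Modules.pushforward (KRR.pr n T)).obj F) := by
  let p := KRR.pr n T
  haveI : IsProper (CohB1.ProjSpace.toSpec n (ULift.{u} ℤ)) := PnCoh.Chow.isProper_toSpec n _
  haveI : IsProper p := MorphismProperty.pullback_snd _ _ inferInstance
  haveI : LocallyOfFinitePresentation p := ProjGen7.lfp_toBase n T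
  haveI : Flat p := ProjGen7.flat_toBase n T
  haveI : HasInjectiveResolutions (KRR.PY n T).Modules := KFlatLib.hasInjectiveResolutions_modules
  have hq := QCoh.isQCoh_of_isFinLocFree hF
  have hfp := QCoh.isFP_of_isFinLocFree hF
  have hfl := PerfLocus7.isFlatOver_of_isFinLocFree p hF
  refine CohPullLib.isFinLocFree_push_of_exchAt hq hfp hfl fun y => ?_
  refine CohPullLib.exchAt_of_isFinLocFree_above hq hfp hfl (m := 0) (fun i hi => ?_) y 0 le_rfl
  obtain ⟨k, rfl⟩ := Nat.exists_eq_add_of_le' hi
  refine KFlatLib.isFinLocFree_of_isZero ?_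
  obtain ⟨e⟩ := QCoh.nonempty_RpushAb_iso p F k
  obtain ⟨e'⟩ := QCoh.nonempty_Rpush_iso p F k
  have hz : IsZero ((QCoh.toAbFunctor T).obj ((Coh.Rpush p (k + 1)).obj F)) :=
    (hvan (k + 1) (by omega)).of_iso ((QCoh.toAbFunctor T).mapIso e' ≪≫ e.symm)
  rw [IsZero.iff_id_eq_zero] at hz ⊢
  haveI : (QCoh.toAbFunctor T).Faithful := inferInstanceAs (SheafOfModules.toSheaf T.ringCatSheaf).Faithful
  exact (QCoh.toAbFunctor T).map_injective (by rw [CategoryTheory.Functor.map_id, hz, Functor.map_zero])

end Groth.Agent.CMReg7
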