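import Groth.Agent.CMReg7.Main
import Groth.Agent.AmpleX.ExtendQS
import Groth.Agent.AmpleX.Proj
import Groth.Agent.AmpleFam7.Main
import Groth.Agent.S4413

set_option autoImplicit false
set_option linter.style.haveILetI false
set_option backward.isDefEq.respectTransparency false
set_option backward.isDefEq.respectTransparency.types false
universe u
open CategoryTheory CategoryTheory.Limits AlgebraicGeometry TopologicalSpace Opposite HomologicalComplex
open Groth.Agent.H23.PicMul
attribute [local instance] HasDerivedCategory.standard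

noncomputable section

namespace Groth.Agent.CMReg7
open Groth.Agent Groth.Agent.AmpleX

section Extend
variable {X : Scheme.{u}} {M L : X.Modules}

/-- A section over the generating locus of `s` extends after multiplication by a power of `s`. -/
theorem exists_extend_within (W : X.Opens) (hWc : IsCompact (W : Set X)) (hWq : IsQuasiSeparated (W : Set X))
    (hM : Coh.IsQCoh M) (hL : PicF.IsInvertible L)
    (s : Coh.structureModule X ⟶ L) (t : Γ(M, CohB1.genLocus L s ⊓ W)) :
    ∃ n₀ : ℕ, ∀ n, n₀ ≤ n → ∃ T : Γ(CohB1.tensorMod M (CohB1.tensorPow L n), W),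
      AModX.res _ (inf_le_right : CohB1.genLocus L s ⊓ W ≤ W) T =
        InvX.tmul t (powElt (AModX.res L (le_top : CohB1.genLocus L s ⊓ W ≤ ⊤) (InvX.one s)) n) := by
  classical
  let G := CohB1.genLocus L s
  have hloc : ∀ x : W, ∃ (U : X.Opens) (_ : IsAffineOpen U) (_ : x.1 ∈ U) (_ : U ≤ W) (e : Γ(L, U)), InvX.IsFrame e :=
    fun x => by
    obtain ⟨U, hxU, e, he⟩ := InvX.exists_frame hL x.1
    obtain ⟨_, ⟨W', hW', rfl⟩, hxW, hle⟩ :=
      X.isBasis_affineOpens.exists_subset_of_mem_open (show x.1 ∈ U ⊓ W from ⟨hxU, x.2⟩) (U ⊓ W).2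
    exact ⟨W', hW', hxW, fun y hy => (hle hy).2, _, he.res (show W' ≤ U from fun y hy => (hle hy).1)⟩
  choose U hU hxU hUW e he using hloc
  obtain ⟨S, hS⟩ := hWc.elim_finite_subcover (fun x => (U x : Set X)) (fun x => (U x).2)
    (fun x hx => Set.mem_iUnion.2 ⟨⟨x, hx⟩, hxU ⟨x, hx⟩⟩)
  choose g hg using fun x => (he x).exists_coord le_rfl (AModX.res L (le_top : U x ≤ ⊤) (InvX.one s))
  simp only [AModX.res_self] at hg
  have hD : ∀ x, G ⊓ U x = X.basicOpen (g x) := fun x => InvX.genLocus_inf s (he x) (hg x)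
  have hDle : ∀ x, X.basicOpen (g x) ≤ G ⊓ W := fun x =>
    le_inf ((hD x).ge.trans inf_le_left) ((X.basicOpen_le _).trans (hUW x))
  choose nx ax hax using fun x =>
    QCoh.exists_pow_smul_eq_map hM (hU x) (g x) (AModX.res M (hDle x) t)
  let N := S.sup nx
  obtain ⟨a, ha⟩ : ∃ a : ∀ x, Γ(M, U x), ∀ x ∈ S, AModX.res M (X.basicOpen_le (g x)) (a x) =
      AModX.resR (X.basicOpen_le (g x)) (g x) ^ N • AModX.res M (hDle x) t := by
    refine ⟨fun x => g x ^ (N - nx x) • ax x, fun x hx => ?_⟩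
    rw [AModX.res_smul, map_pow]
    refine (congrArg (_ • ·) (hax x)).trans ?_
    rw [← mul_smul]
    refine congrArg (· • _) ?_
    show _ * AModX.resR (X.basicOpen_le (g x)) (g x) ^ nx x = _
    rw [← pow_add, Nat.sub_add_cancel (Finset.le_sup hx)]
  -- transition functions
  choose u hu using fun x y => (he x).exists_coord (inf_le_left : U x ⊓ U y ≤ U x)
    (AModX.res L (inf_le_right : U x ⊓ U y ≤ U y) (e y))
  have hgu : ∀ x y, AModX.resR (inf_le_left : U x ⊓ U y ≤ U x) (g x) =
      AModX.resR (inf_le_right : U x ⊓ U y ≤ U y) (g y) * u x y := fun x y => by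
    refine (he x).coord_unique inf_le_left ?_
    rw [mul_smul, ← hu, ← AModX.res_smul, ← AModX.res_smul, ← hg, ← hg, AModX.res_res, AModX.res_res]
  have hcompat : ∀ x ∈ S, ∀ y ∈ S, ∃ m : ℕ,
      AModX.resR (inf_le_left : U x ⊓ U y ≤ U x) (g x) ^ m •
        (AModX.res M inf_le_left (a x) - u x y ^ N • AModX.res M inf_le_right (a y)) = 0 := by
    intro x hx y hy
    refine QCoh.exists_pow_smul_eq_zero_of_isCompact hM
      (show IsCompact ((U x : Set X) ∩ U y) from (hWq (U x : Set X) (U y) (hUW x) (U x).2 (hU x).isCompact (hUW y) (U y).2 (hU y).isCompact)) _ _ ?_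
    let W₂ := U x ⊓ U y
    let gW := AModX.resR (inf_le_left : W₂ ≤ U x) (g x)
    have hbW : X.basicOpen gW = W₂ ⊓ X.basicOpen (g x) := X.basicOpen_res _ _
    have h1 : X.basicOpen gW ≤ X.basicOpen (g x) := hbW.le.trans inf_le_right
    have h2 : X.basicOpen gW ≤ X.basicOpen (g y) := by
      rw [← hD y]
      exact le_inf ((h1.trans (hDle x)).trans inf_le_left) ((X.basicOpen_le _).trans inf_le_right)
    show AModX.res M (X.basicOpen_le gW) _ = 0
    rw [map_sub, sub_eq_zero, AModX.res_smul, AModX.res_res, AModX.res_res,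
      ← AModX.res_res (X.basicOpen_le (g x)) h1, ha x hx,
      ← AModX.res_res (X.basicOpen_le (g y)) h2 (a y), ha y hy, AModX.res_smul, AModX.res_smul,
      AModX.res_res, AModX.res_res, map_pow, map_pow, map_pow, ← mul_smul, ← mul_pow,
      AModX.resR_resR, AModX.resR_resR]
    congr 2
    have h3 := congrArg (AModX.resR (X.basicOpen_le gW)) (hgu x y)
    rw [map_mul, AModX.resR_resR, AModX.resR_resR] at h3
    rw [h3, mul_comm]
  choose! m hm using hcompat
  let m₀ := (S ×ˢ S).sup fun p => m p.1 p.2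
  refine ⟨N + m₀, fun n hn => ?_⟩
  obtain ⟨k, rfl⟩ := Nat.exists_eq_add_of_le (le_trans (Nat.le_add_right N m₀) hn)
  have hk : m₀ ≤ k := by omega
  let T : ∀ x : S, Γ(CohB1.tensorMod M (CohB1.tensorPow L (N + k)), U x) := fun x =>
    InvX.tmul (g x ^ k • a x) (powElt (e x) (N + k))
  obtain ⟨T₀, hT₀, -⟩ := AModX.existsUnique_glue (M := CohB1.tensorMod M (CohB1.tensorPow L (N + k)))
    (V := W) (fun x : S => U x) (fun x => hUW x)
    (fun p hp => by
      obtain ⟨x, hxS, hpx⟩ := Set.mem_iUnion₂.1 (hS (show p ∈ (W : Set X) by assumption))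
      exact ⟨⟨x, hxS⟩, hpx⟩) T
    (fun x y => by
      show AModX.res _ _ (InvX.tmul _ _) = AModX.res _ _ (InvX.tmul _ _)
      have hu' := hu x.1 y.1
      rw [InvX.res_tmul, InvX.res_tmul, res_powElt, res_powElt, hu', powElt_smul, InvX.tmul_smul_right,
        ← InvX.tmul_smul_left]
      refine congrArg (fun z => InvX.tmul z _) ?_
      have h0 := hm x.1 x.2 y.1 y.2
      obtain ⟨j, hj⟩ := Nat.exists_eq_add_of_le ((Finset.le_sup (f := fun p : W × W => m p.1 p.2)
        (Finset.mk_mem_product x.2 y.2)).trans hk)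
      have h1 : AModX.resR (inf_le_left : U x.1 ⊓ U y.1 ≤ U x.1) (g x.1) ^ k •
          (AModX.res M inf_le_left (a x.1) - u x.1 y.1 ^ N • AModX.res M inf_le_right (a y.1)) = 0 := by
        rw [hj, pow_add, mul_comm, mul_smul, h0, smul_zero]
      rw [smul_sub, sub_eq_zero] at h1
      rw [AModX.res_smul, AModX.res_smul, map_pow, map_pow]
      refine h1.trans ?_
      rw [← mul_smul, ← mul_smul, hgu, mul_pow, pow_add]
      congr 1
      ring)
  refine ⟨T₀, AModX.eq_of_locally _ _ fun p hp => ?_⟩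
  obtain ⟨x, hxS, hpx⟩ := Set.mem_iUnion₂.1 (hS hp.2)
  refine ⟨X.basicOpen (g x), hDle x, ?_, ?_⟩
  · rw [← hD x]; exact ⟨hp.1, hpx⟩
  rw [AModX.res_res, ← AModX.res_res (hUW x) (X.basicOpen_le (g x)), hT₀ ⟨x, hxS⟩,
    InvX.res_tmul, InvX.res_tmul, AModX.res_smul, ha x hxS, map_pow, ← mul_smul, ← pow_add,
    InvX.tmul_smul_left, ← InvX.tmul_smul_right, res_powElt, res_powElt, AModX.res_res,
    ← AModX.res_res (le_top : U x ≤ ⊤) (X.basicOpen_le (g x)) (InvX.one s), hg x, AModX.res_smul,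
    powElt_smul, add_comm k N]

end Extend

/-- maps of modules act on the cones, compatibly with the top term -/
theorem exists_cone_map {X : Scheme.{u}} {κ : Type} {D : Type*} [Category D] [Preadditive D] (L L' : ℤ → X.Modules)
    (m : κ → ∀ a, L a ⟶ L (a + 1)) (hc : ∀ i j a, m i a ≫ m j (a + 1) = m j a ≫ m i (a + 1))
    (m' : κ → ∀ a, L' a ⟶ L' (a + 1)) (hc' : ∀ i j a, m' i a ≫ m' j (a + 1) = m' j a ≫ m' i (a + 1))
    (v : ∀ a, L a ⟶ L' a) (hv : ∀ i a, v a ≫ m' i a = m i a ≫ v (a + 1))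
    (G : X.Modules ⥤ D) [G.Additive] : ∀ (l : List κ),
    ∃ ψ : ∀ a, ((ProjGen7.kdOfModules L m hc).cones l).obj a ⟶ ((ProjGen7.kdOfModules L' m' hc').cones l).obj a,
      (∀ i a, ψ a ≫ ((ProjGen7.kdOfModules L' m' hc').cones l).op i a =
          ((ProjGen7.kdOfModules L m hc).cones l).op i a ≫ ψ (a + 1)) ∧
      (∀ a p, G.map (v (a + l.length + p)) = 0 → G.map ((ψ a).f p) = 0) ∧
      (∀ a, G.map ((ψ a).f 0) = 0 → G.map (v (a + l.length)) = 0)
  | [] => by
    refine ⟨fun a => (HomologicalComplex.single _ (ComplexShape.up ℤ) 0).map (v a), fun i a => ?_,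
      fun a p h => ?_, fun a h => ?_⟩
    · show (HomologicalComplex.single _ (ComplexShape.up ℤ) 0).map (v a) ≫
          (HomologicalComplex.single _ (ComplexShape.up ℤ) 0).map (m' i a) =
        (HomologicalComplex.single _ (ComplexShape.up ℤ) 0).map (m i a) ≫
          (HomologicalComplex.single _ (ComplexShape.up ℤ) 0).map (v (a + 1))
      rw [← Functor.map_comp, ← Functor.map_comp, hv]
    · by_cases hp : p = 0
      · subst hp
        have h' : G.map (v a) = 0 := by
          have e : a + (([] : List κ).length : ℤ) + 0 = a := by simp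
          rw [e] at h; exact h
        rw [single_map_f_self, G.map_comp, G.map_comp, h', zero_comp, comp_zero]
      · exact ((G.map_isZero (isZero_single_obj_X (ComplexShape.up ℤ) 0 (L a) p hp)).eq_of_src _ _)
    · have e : a + (([] : List κ).length : ℤ) = a := by simp
      rw [e]
      rw [single_map_f_self, G.map_comp, G.map_comp] at h
      rw [← cancel_epi (G.map (singleObjXSelf (ComplexShape.up ℤ) 0 (L a)).hom),
        ← cancel_mono (G.map (singleObjXSelf (ComplexShape.up ℤ) 0 (L' a)).inv), Category.assoc,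
        comp_zero, zero_comp]
      exact h
  | t :: l => by
    let F := (ProjGen7.kdOfModules L m hc).cones l
    let F' := (ProjGen7.kdOfModules L' m' hc').cones l
    obtain ⟨ψ, hψ, hzero, htop⟩ := exists_cone_map L L' m hc m' hc' v hv G l
    refine ⟨fun a => CochainComplex.mappingCone.map (F.op t a) (F'.op t a) (ψ a) (ψ (a + 1)) (hψ t a).symm,
      fun i a => ?_, fun a p h => ?_, fun a h => ?_⟩
    · simp only [ProjGen7.KD.cones, ProjGen7.KD.next]
      erw [← CochainComplex.mappingCone.map_comp, ← CochainComplex.mappingCone.map_comp]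
      congr 1
      · exact hψ i a
      · exact hψ i (a + 1)
    · have h1 := hzero a (p + 1) (by
        rwa [show a + ((t :: l).length : ℤ) + p = a + l.length + (p + 1) by simp; ring] at h)
      have h2 := hzero (a + 1) p (by
        rwa [show a + ((t :: l).length : ℤ) + p = a + 1 + l.length + p by simp; ring] at h)
      let Φ := CochainComplex.mappingCone.map (F.op t a) (F'.op t a) (ψ a) (ψ (a + 1)) (hψ t a).symm
      show G.map (Φ.f p) = 0
      rw [← Category.id_comp (Φ.f p), ← CochainComplex.mappingCone.id_X (F.op t a) p (p + 1) rfl,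
        Preadditive.add_comp, Category.assoc, Category.assoc]
      simp only [Φ, CochainComplex.mappingCone.map, CochainComplex.mappingCone.inl_v_desc_f,
        CochainComplex.mappingCone.inr_f_desc_f, CochainComplex.HomComplex.Cochain.ofHom_v,
        CochainComplex.HomComplex.Cochain.zero_cochain_comp_v, HomologicalComplex.comp_f,
        G.map_add, G.map_comp, h1, h2, zero_comp, comp_zero, add_zero]
    · have h2 : G.map ((ψ (a + 1)).f 0) = 0 := by
        let Φ := CochainComplex.mappingCone.map (F.op t a) (F'.op t a) (ψ a) (ψ (a + 1)) (hψ t a).symm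
        have e : (ψ (a + 1)).f 0 = (CochainComplex.mappingCone.inr (F.op t a)).f 0 ≫ Φ.f 0 ≫
            (CochainComplex.mappingCone.snd (F'.op t a)).v 0 0 (add_zero 0) := by
          simp [Φ, CochainComplex.mappingCone.map]
        change G.map (Φ.f 0) = 0 at h
        rw [e, G.map_comp, G.map_comp, h, zero_comp, comp_zero]
      have h3 := htop (a + 1) h2
      rwa [show a + ((t :: l).length : ℤ) = a + 1 + l.length by simp; ring]

/-- the surjectivity of the top differential after applying a left exact functor -/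
theorem epi_top {C : Type*} [Category C] [Abelian C] {D : Type*} [Category D] [Abelian D] (H : ℕ → (C ⥤ D))
    (hH : ∀ (S : ShortComplex C), S.ShortExact → ∀ j, IsZero ((H j).obj S.X₂) →
      IsZero ((H (j + 1)).obj S.X₁) → IsZero ((H j).obj S.X₃))
    (hH1 : ∀ (S : ShortComplex C), S.ShortExact → IsZero ((H 1).obj S.X₁) → Epi ((H 0).map S.g))
    (hH0 : ∀ j M, IsZero M → IsZero ((H j).obj M))
    (K : CochainComplex C ℤ) (hK : K.Acyclic) (htop : ∀ p, 0 < p → IsZero (K.X p))
    (N : ℕ) (hbot : ∀ p, p < -(N : ℤ) → IsZero (K.X p))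
    (h : ∀ k : ℕ, IsZero ((H (k + 1)).obj (K.X (-(k : ℤ) - 2)))) : Epi ((H 0).map (K.d (-1) 0)) := by
  have hses : ∀ (p r : ℤ), p + 1 = r → ∃ w : K.iCycles p ≫ K.toCycles p r = 0,
      (ShortComplex.mk (K.iCycles p) (K.toCycles p r) w).ShortExact := by
    intro p r hr
    subst hr
    haveI : Epi (K.toCycles p (p + 1)) := by
      have hexact := hK (p + 1)
      rw [exactAt_iff_isZero_homology] at hexact
      refine Preadditive.epi_of_cancel_zero _ fun g hg => ?_
      obtain ⟨g', hg'⟩ : ∃ g', K.homologyπ _ ≫ g' = g :=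
        ⟨_, (K.homologyIsCokernel p (p + 1) (by simp)).fac (CokernelCofork.ofπ g hg) WalkingParallelPair.one⟩
      rw [← hg', hexact.eq_of_src g' 0, comp_zero]
    have w : K.iCycles p ≫ K.toCycles p (p + 1) = 0 := by
      rw [← cancel_mono (K.iCycles (p + 1)), Category.assoc, toCycles_i, iCycles_d, zero_comp]
    let S := ShortComplex.mk (K.iCycles p) (K.toCycles p (p + 1)) w
    haveI : Mono S.f := inferInstanceAs (Mono (K.iCycles p))
    haveI : Epi S.g := inferInstanceAs (Epi (K.toCycles p (p + 1)))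
    refine ⟨w, { exact := S.exact_of_f_is_kernel (KernelFork.IsLimit.ofι' _ _ fun {W} a ha =>
      ⟨K.liftCycles a (p + 1) (by simp) ?_, K.liftCycles_i _ _ _ _⟩) }⟩
    have := ha =≫ K.iCycles (p + 1)
    simpa [S] using this
  have key : ∀ (s k : ℕ), N ≤ k + s → IsZero ((H (k + 1)).obj (K.cycles (-(k : ℤ) - 1))) := by
    intro s
    induction s with
    | zero =>
      intro k hk
      refine hH0 _ _ ?_
      rw [IsZero.iff_id_eq_zero, ← cancel_mono (K.iCycles (-(k : ℤ) - 1))]
      exact (hbot _ (by omega)).eq_of_tgt _ _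
    | succ s ih =>
      intro k hk
      obtain ⟨w, hS⟩ := hses (-(k : ℤ) - 2) (-(k : ℤ) - 1) (by ring)
      refine hH _ hS (k + 1) (h k) ?_
      show IsZero ((H (k + 1 + 1)).obj (K.cycles (-(k : ℤ) - 2)))
      rw [show -(k : ℤ) - 2 = -((k + 1 : ℕ) : ℤ) - 1 by push_cast; ring]
      exact ih (k + 1) (by omega)
  obtain ⟨w, hS⟩ := hses (-1) 0 (by ring)
  haveI := hH1 _ hS (by
    have := key N 0 (by omega)
    exact this)
  haveI : IsIso (K.iCycles 0) := K.isIso_iCycles 0 1 (by simp) ((htop 1 one_pos).eq_of_tgt _ _)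
  rw [← toCycles_i, (H 0).map_comp]
  infer_instance

variable {n : ℕ} {T : Scheme.{u}}

/-- if `u` kills the direct image of a regular module, it kills those of all its twists -/
theorem push_twF_eq_zero (F : (KRR.PY n T).Modules) (hreg : KRR.IsRegSheaf n T F) {W : (KRR.PY n T).Modules}
    (u : F ⟶ W) (hu : (Scheme.Modules.pushforward (KRR.pr n T)).map u = 0) :
    ∀ k : ℕ, (Scheme.Modules.pushforward (KRR.pr n T)).map
      (((DCoh.tensorBi (X := KRR.PY n T)).obj (Twist.twistOver n T (k : ℤ))).map u) = 0 := by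
  intro k
  induction k with
  | zero =>
    obtain ⟨o⟩ := H23.PicMul.cl_eq_iff.1 ((cl_twistOver_zero (n := n) (T := T)).trans H23.PicMul.one_def)
    let θ : (DCoh.tensorBi (X := KRR.PY n T)).obj (Twist.twistOver n T ((0 : ℕ) : ℤ)) ≅ 𝟭 _ :=
      (DCoh.tensorBi (X := KRR.PY n T)).mapIso o ≪≫
        ((KFlatLib.tensorBiFlipIso (KRR.PY n T)).app (Coh.structureModule _)).symm ≪≫ AmpleVan.twUnit
    rw [show ((DCoh.tensorBi (X := KRR.PY n T)).obj (Twist.twistOver n T ((0 : ℕ) : ℤ))).map u =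
      θ.hom.app F ≫ u ≫ θ.inv.app W from (NatIso.naturality_2 θ u).symm,
      Functor.map_comp, Functor.map_comp, hu, zero_comp, comp_zero]
  | succ k ih =>
    let R := ULift.{u} ℤ
    let f : Fin (n + 1) → MvPolynomial (Fin (n + 1)) R := fun j => ProjGen7.coord' n R (ULift.up j)
    have hf : ∀ j, f j ∈ CohB1.polyGrading n R 1 := fun j => ProjGen7.coord'_mem n R (ULift.up j)
    let μ : ∀ (_ : Fin (n + 1)) (b : ℤ), Twist.twistOver n T b ⟶ Twist.twistOver n T (b + 1) := fun j b =>
      (Scheme.Modules.pullback (toZ n T)).map (PnDual.mulHom (hf j) (d := b) (d' := b + 1) rfl)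
    let L : (KRR.PY n T).Modules → ℤ → (KRR.PY n T).Modules := fun F b => KRR.twF n T b F
    let m : ∀ (F : (KRR.PY n T).Modules), Fin (n + 1) → ∀ b, L F b ⟶ L F (b + 1) := fun F j b =>
      ((DCoh.tensorBi (X := KRR.PY n T)).map (μ j b)).app F
    have hc : ∀ (F : (KRR.PY n T).Modules) j j' b, m F j b ≫ m F j' (b + 1) = m F j' b ≫ m F j (b + 1) :=
      fun F j j' b => by
      simp only [m, μ, ← NatTrans.comp_app, ← Functor.map_comp, ProjGen7.mulHom_comm (hf j) (hf j') b]
    let V : Fin (n + 1) → (KRR.PY n T).Opens := fun j => toZ n T ⁻¹ᵁ Proj.basicOpen (CohB1.polyGrading n R) (f j)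
    have hcov : ∀ y, ∃ j, y ∈ V j := fun y => by
      have hy : (toZ n T) y ∈ ⨆ j, PnCoh.Finite.D (CohB1.polyGrading n R) (ProjGen7.coord' n R j) :=
        ProjGen7.iSup_coord' n R ▸ TopologicalSpace.Opens.mem_top _
      obtain ⟨j, hj⟩ := TopologicalSpace.Opens.mem_iSup.1 hy
      exact ⟨j.down, hj⟩
    have hiso : ∀ j b, IsIso ((Scheme.Modules.restrictFunctor (V j).ι).map (m F j b)) := fun j b => by
      haveI := ProjGen7.isIso_restrict_mulHom (hf j) b
      haveI : IsIso ((Scheme.Modules.restrictFunctor (V j).ι).map (μ j b)) :=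
        ExtShX.isIso_restrict_pull (toZ n T) _ _
      haveI := ExtShX.isIso_restrict_tensor (V j).ι F (μ j b)
      exact (NatIso.isIso_map_iff (Functor.isoWhiskerRight ((KFlatLib.tensorBiFlipIso (KRR.PY n T)).app F)
        (Scheme.Modules.restrictFunctor (V j).ι)) (μ j b)).2 ‹_›
    let l := (Finset.univ : Finset (Fin (n + 1))).toList
    have hl : (l.length : ℤ) = (n : ℤ) + 1 := by simp [l]
    let a : ℤ := (k : ℤ) - (n : ℤ)
    let P := Scheme.Modules.pushforward (KRR.pr n T)
    haveI : P.Additive := Functor.additive_of_preserves_binary_products _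
    obtain ⟨ψ, -, hzero, htop⟩ := exists_cone_map (L F) (L W) (m F) (hc F) (m W) (hc W)
      (fun b => ((DCoh.tensorBi (X := KRR.PY n T)).obj (Twist.twistOver n T b)).map u)
      (fun j b => ((DCoh.tensorBi (X := KRR.PY n T)).map (μ j b)).naturality u) P l
    let K := ((ProjGen7.kdOfModules (L F) (m F) (hc F)).cones l).obj a
    have h1 : P.map ((ψ a).f (-1)) = 0 := hzero a (-1) (by
      rw [show a + (l.length : ℤ) + -1 = (k : ℤ) by simp [a, hl]; ring]; exact ih)
    let G : ℕ → ((KRR.PY n T).Modules ⥤ _) := fun j =>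
      QCoh.toAbFunctor (KRR.PY n T) ⋙ Coh.RpushAb (KRR.pr n T) j
    have hGadd : ∀ j, (G j).Additive := fun j => inferInstance
    haveI := QCoh.preservesFiniteLimits_pushAb (KRR.pr n T)
    have hepi : Epi ((G 0).map (K.d (-1) 0)) := by
      refine epi_top G ?_ ?_ (fun j M hM => by haveI := hGadd j; exact (G j).map_isZero hM) K
        (acyclic_cones (L F) (m F) (hc F) V hcov hiso a)
        (nonempty_top (L F) (m F) (hc F) l a).2 (n + 1)
        (fun p hp => isZero_term (L F) (m F) (hc F) (𝟭 _) l a p fun hp' => absurd hp (by push_cast; omega))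
        fun j => ?_
      · intro S hS j h2 h1'
        obtain ⟨δ, w₁, w₂, w₃, e₁, e₂, e₃⟩ := TriCat.exists_rightDerived_ses (Coh.pushAb (KRR.pr n T))
          (QCoh.toAb_shortExact hS) j
        exact e₂.isZero_of_both_zeros (h2.eq_of_src _ _) (h1'.eq_of_tgt _ _)
      · intro S hS h1'
        obtain ⟨δ, w₁, w₂, w₃, e₁, e₂, e₃⟩ := TriCat.exists_rightDerived_ses (Coh.pushAb (KRR.pr n T))
          (QCoh.toAb_shortExact hS) 0
        exact e₂.epi_f (h1'.eq_of_tgt _ _)
      · haveI := hGadd (j + 1)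
        refine isZero_term (L F) (m F) (hc F) (G (j + 1)) l a (-(j : ℤ) - 2) fun _ => ?_
        have := (RegSheaf7.isZero_twF_congr rfl (j + 1) F).1 (reg_twF F hreg k (j + 1) (by omega))
        rw [show a + (l.length : ℤ) + (-(j : ℤ) - 2) = -((j + 1 : ℕ) : ℤ) + (k : ℤ) by
          simp [a, hl]; ring]
        exact this
    haveI : Epi (P.map (K.d (-1) 0)) := by
      haveI := hepi
      haveI : Epi ((QCoh.toAbFunctor T).map (P.map (K.d (-1) 0))) := by
        have hn := (Coh.pushAb (KRR.pr n T)).rightDerivedZeroIsoSelf.hom.naturality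
          ((QCoh.toAbFunctor (KRR.PY n T)).map (K.d (-1) 0))
        exact ((MorphismProperty.epimorphisms _).arrow_mk_iso_iff
          (Arrow.isoMk ((Coh.pushAb (KRR.pr n T)).rightDerivedZeroIsoSelf.app _)
            ((Coh.pushAb (KRR.pr n T)).rightDerivedZeroIsoSelf.app _) hn.symm)).1 hepi
      haveI : (QCoh.toAbFunctor T).Faithful := inferInstanceAs (SheafOfModules.toSheaf T.ringCatSheaf).Faithful
      exact (QCoh.toAbFunctor T).epi_of_epi_map ‹_›
    have h0 : P.map ((ψ a).f 0) = 0 := by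
      rw [← cancel_epi (P.map (K.d (-1) 0)), comp_zero, ← P.map_comp, ← (ψ a).comm, P.map_comp, h1, zero_comp]
    have := htop a h0
    rwa [show a + (l.length : ℤ) = ((k + 1 : ℕ) : ℤ) by simp [a, hl]; ring] at this

/-- the chosen coordinate section of `O(1)` -/
theorem exists_coord_section (j : Fin (n + 1)) :
    ∃ σ : Coh.structureModule (KRR.PY n T) ⟶ Twist.twistOver n T 1,
      CohB1.genLocus _ σ = toZ n T ⁻¹ᵁ Proj.basicOpen (CohB1.polyGrading n (ULift.{u} ℤ))
        (ProjGen7.coord' n (ULift.{u} ℤ) (ULift.up j)) := by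
  let R := ULift.{u} ℤ
  have hcov := ProjGen7.iSup_coord' n R
  let g := ProjGen7.coord' n R
  have hg : ∀ j, g j ∈ CohB1.polyGrading n R 1 := ProjGen7.coord'_mem n R
  obtain ⟨e⟩ : Nonempty (Coh.structureModule (KRR.PY n T) ≅
      (Scheme.Modules.pullback (toZ n T)).obj (Coh.structureModule _)) :=
    (PicClLib.nonempty_pullback_structureModule (toZ n T)).map Iso.symm
  refine ⟨e.hom ≫ (Scheme.Modules.pullback (toZ n T)).map
    (InvX.ofSect (ProjUPX.sec (CohB1.polyGrading n R) (hg (ULift.up j)))), ?_⟩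
  refine (S4413.result (toZ n T) _ (PnCoh.Finite.isInvertible_twist g hg hcov 1) _ e).trans ?_
  rw [AmpleX.genLocus_sec _ g hg hcov (hg (ULift.up j))]

theorem cl_twistOver_pow : ∀ q : ℕ, PicF.cl (Twist.twistOver n T 1) ^ q = PicF.cl (Twist.twistOver n T (q : ℤ))
  | 0 => by rw [pow_zero]; exact cl_twistOver_zero.symm
  | q + 1 => by rw [pow_succ, cl_twistOver_pow q, RegSheaf7.cl_twistOver_add, Nat.cast_succ]

/-- `p^*p_* F → F` is an epimorphism for a regular quasi-coherent `F`. -/
theorem epi_counit (F : (KRR.PY n T).Modules) (hF : Coh.IsQCoh F) (hreg : KRR.IsRegSheaf n T F) :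
    Epi ((Scheme.Modules.pullbackPushforwardAdjunction (KRR.pr n T)).counit.app F) := by
  let p := KRR.pr n T
  let adj := Scheme.Modules.pullbackPushforwardAdjunction p
  haveI : (Scheme.Modules.pushforward p).Additive := Functor.additive_of_preserves_binary_products _
  refine Preadditive.epi_of_cancel_zero _ fun {W} u hu => ?_
  have hu0 : (Scheme.Modules.pushforward p).map u = 0 := by
    have h := congrArg (Scheme.Modules.pushforward p).map hu
    rw [Functor.map_comp, Functor.map_zero] at h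
    have h' := congrArg (adj.unit.app ((Scheme.Modules.pushforward p).obj F) ≫ ·) h
    simp only [comp_zero] at h'
    erw [adj.right_triangle_components_assoc] at h'
    exact h'
  have hk := push_twF_eq_zero F hreg u hu0
  refine HomShX.ext_stalk fun y => ?_
  rw [HomShX.stalkMapₗ_zero]
  obtain ⟨_, ⟨U, hU, rfl⟩, hyU, -⟩ :=
    T.isBasis_affineOpens.exists_subset_of_mem_open (Set.mem_univ (p y)) isOpen_univ
  let W₀ := p ⁻¹ᵁ U
  have hy : (toZ n T) y ∈ ⨆ j, PnCoh.Finite.D (CohB1.polyGrading n (ULift.{u} ℤ)) (ProjGen7.coord' n (ULift.{u} ℤ) j) :=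
    ProjGen7.iSup_coord' n (ULift.{u} ℤ) ▸ TopologicalSpace.Opens.mem_top _
  obtain ⟨⟨j⟩, hyj⟩ := TopologicalSpace.Opens.mem_iSup.1 hy
  obtain ⟨σ, hσ⟩ := exists_coord_section (n := n) (T := T) j
  have hL := RegSheaf7.isInvertible_twistOver (n := n) (T := T) 1
  let G := CohB1.genLocus _ σ
  haveI : IsProper (CohB1.ProjSpace.toSpec n (ULift.{u} ℤ)) := PnCoh.Chow.isProper_toSpec n _
  haveI : IsProper p := MorphismProperty.pullback_snd _ _ inferInstance
  haveI hUq : QuasiSeparatedSpace (U : Scheme.{u}) := by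
    haveI : IsAffine (U : Scheme.{u}) := hU
    infer_instance
  have hWc : IsCompact (W₀ : Set (KRR.PY n T)) := QuasiCompact.isCompact_preimage _ U.2 hU.isCompact
  have hWq : IsQuasiSeparated (W₀ : Set (KRR.PY n T)) :=
    (isQuasiSeparated_iff_quasiSeparatedSpace _ W₀.2).2 (quasiSeparatedSpace_of_quasiSeparated (p ∣_ U))
  have hGaff : IsAffineOpen (G ⊓ W₀) := by
    let D := Proj.basicOpen (CohB1.polyGrading n (ULift.{u} ℤ)) (ProjGen7.coord' n (ULift.{u} ℤ) (ULift.up j))
    haveI : IsAffine (D : Scheme.{u}) :=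
      Proj.isAffineOpen_basicOpen _ _ (ProjGen7.coord'_mem n (ULift.{u} ℤ) (ULift.up j)) one_pos
    have hpb : IsPullback (toZ n T ∣_ D) ((toZ n T ⁻¹ᵁ D).ι ≫ p)
        (D.ι ≫ CohB1.ProjSpace.toSpec n (ULift.{u} ℤ)) (specULiftZIsTerminal.from T) :=
      (isPullback_morphismRestrict (toZ n T) D).paste_vert (IsPullback.of_hasPullback _ _)
    haveI : IsAffineHom (D.ι ≫ CohB1.ProjSpace.toSpec n (ULift.{u} ℤ)) := inferInstance
    haveI : IsAffineHom ((toZ n T ⁻¹ᵁ D).ι ≫ p) :=
      MorphismProperty.of_isPullback hpb ‹_›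
    have h := (hU.preimage ((toZ n T ⁻¹ᵁ D).ι ≫ p)).image_of_isOpenImmersion (toZ n T ⁻¹ᵁ D).ι
    rw [Scheme.Hom.comp_preimage, Scheme.Hom.image_preimage_eq_opensRange_inf, Scheme.Opens.opensRange_ι] at h
    rw [show G = toZ n T ⁻¹ᵁ D from hσ]
    exact h
  have hyG : y ∈ G ⊓ W₀ := ⟨by show y ∈ CohB1.genLocus _ σ; rw [hσ]; exact hyj, hyU⟩
  refine LinearMap.ext_on_range (v := fun t : Γ(F, G ⊓ W₀) => F.presheaf.germ (G ⊓ W₀) y hyG t) ?_ fun t => ?_
  · letI := QCoh.stalkAlg (X := KRR.PY n T) hyG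
    letI := QCoh.stalkModule F hyG
    haveI := QCoh.isScalarTower_stalk F hyG
    haveI := QCoh.isLocalization_stalk' hGaff hyG
    haveI := QCoh.isLocalizedModule_germLin hF hGaff hyG
    have h1 : Submodule.localized' ((KRR.PY n T).presheaf.stalk y) (hGaff.primeIdealOf ⟨y, hyG⟩).asIdeal.primeCompl
        (QCoh.germLin F hyG) (Submodule.span Γ(KRR.PY n T, G ⊓ W₀) (Set.range (id : Γ(F, G ⊓ W₀) → Γ(F, G ⊓ W₀)))) = ⊤ := by
      rw [Set.range_id, Submodule.span_univ, Submodule.localized'_top]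
    rw [Submodule.localized'_span, ← Set.range_comp] at h1
    exact h1
  suffices h : u.app (G ⊓ W₀) t = 0 by
    refine (RefHull.stalkMapₗ_germ u y hyG t).trans ?_
    rw [h, map_zero]; rfl
  obtain ⟨n₀, hn₀⟩ := exists_extend_within W₀ hWc hWq hF hL σ t
  obtain ⟨T₀, hT₀⟩ := hn₀ n₀ le_rfl
  let P := CohB1.tensorPow (Twist.twistOver n T 1) n₀
  obtain ⟨eP⟩ : Nonempty (Twist.twistOver n T (n₀ : ℤ) ≅ P) := H23.PicMul.cl_eq_iff.1 (by
    rw [H23.PicMul.cl_tensorPow, cl_twistOver_pow])
  let θ : (DCoh.tensorBi (X := KRR.PY n T)).obj (Twist.twistOver n T (n₀ : ℤ)) ≅ AmpleVan.tw P :=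
    ((KFlatLib.tensorBiFlipIso (KRR.PY n T)).app (Twist.twistOver n T (n₀ : ℤ))).symm ≪≫
      (DCoh.tensorBi (X := KRR.PY n T)).flip.mapIso eP
  have h3 : ((AmpleVan.tw P).map u).app W₀ T₀ = 0 := by
    have e : (Scheme.Modules.pushforward p).map ((AmpleVan.tw P).map u) = 0 := by
      rw [show (AmpleVan.tw P).map u = θ.inv.app F ≫
        ((DCoh.tensorBi (X := KRR.PY n T)).obj (Twist.twistOver n T (n₀ : ℤ))).map u ≫ θ.hom.app W from
        (NatIso.naturality_1 θ u).symm, Functor.map_comp, Functor.map_comp, hk n₀, zero_comp, comp_zero]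
    exact congr(($e).app U T₀)
  have h4 := congrArg (AModX.res _ (inf_le_right : G ⊓ W₀ ≤ W₀)) h3
  rw [← AModX.app_res, map_zero] at h4
  erw [hT₀, AmpleFam7.twMap_app_tmul] at h4
  have hfr0 : InvX.IsFrame (AModX.res _ (le_top : G ⊓ W₀ ≤ ⊤) (InvX.one σ)) := by
    have := (AmpleX.res_genLocus_frame σ).res (inf_le_left : G ⊓ W₀ ≤ G)
    rwa [AModX.res_res] at this
  apply (FlatTwist.bijective_tmul_frame (M := W) (AmpleX.isFrame_powElt hfr0 n₀) (le_refl (G ⊓ W₀))).1
  simp only [AModX.res_self]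
  refine h4.trans ?_
  have := InvX.tmul_smul_left (0 : Γ(KRR.PY n T, G ⊓ W₀)) (0 : Γ(W, G ⊓ W₀))
    (powElt (AModX.res (Twist.twistOver n T 1) (le_top : G ⊓ W₀ ≤ ⊤) (InvX.one σ)) n₀)
  rw [zero_smul, zero_smul] at this
  exact this.symm

theorem split_push_counit (F : (KRR.PY n T).Modules) :
    Epi ((Scheme.Modules.pushforward (KRR.pr n T)).map
      ((Scheme.Modules.pullbackPushforwardAdjunction (KRR.pr n T)).counit.app F)) := by
  haveI : IsSplitEpi ((Scheme.Modules.pushforward (KRR.pr n T)).map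
      ((Scheme.Modules.pullbackPushforwardAdjunction (KRR.pr n T)).counit.app F)) :=
    ⟨⟨_, (Scheme.Modules.pullbackPushforwardAdjunction (KRR.pr n T)).right_triangle_components F⟩⟩
  infer_instance

end Groth.Agent.CMReg7
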