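import Groth.Agent.RegSheaf7.Main
import Groth.Agent.ProjGen7.Windows
import Groth.Agent.ExtShX.ProjNat
import Groth.Agent.H9Misc.FinDimDerived

set_option autoImplicit false
set_option linter.style.haveILetI false
set_option backward.isDefEq.respectTransparency false
universe u
open CategoryTheory CategoryTheory.Limits AlgebraicGeometry HomologicalComplex
attribute [local instance] HasDerivedCategory.standard

noncomputable section

namespace Groth.Agent.CMReg7
open Groth.Agent Groth.Agent.H23.PicMul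

/-- acyclicity of the iterated cones of commuting operators which are locally invertible -/
theorem acyclic_cones {X : Scheme.{u}} {κ : Type} [Fintype κ] (L : ℤ → X.Modules)
    (m : κ → ∀ a, L a ⟶ L (a + 1)) (hc : ∀ i j a, m i a ≫ m j (a + 1) = m j a ≫ m i (a + 1))
    (V : κ → X.Opens) (hcov : ∀ y : X, ∃ i, y ∈ V i)
    (hiso : ∀ i a, IsIso ((Scheme.Modules.restrictFunctor (V i).ι).map (m i a))) (a : ℤ) :
    (((ProjGen7.kdOfModules L m hc).cones (Finset.univ : Finset κ).toList).obj a).Acyclic := by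
  open ProjGen7 KFlatLib PerfGen7 in
  let F := kdOfModules L m hc
  refine (H9Misc.FinDimDerived.isZero_Q_obj_iff _).1 ?_
  open ProjGen7 KFlatLib PerfGen7 in
  refine isZero_of_supp_empty (supp_iff.2 fun y _ p => ?_)
  obtain ⟨i, hj⟩ := hcov y
  have hi : ∀ b, IsIso ((KFlatLib.rho (V i).ι).map (DerivedCategory.Q.map (F.op i b))) := fun b => by
    haveI := hiso i b
    haveI : IsIso ((HomologicalComplex.single (V i : Scheme.{u}).Modules (ComplexShape.up ℤ) 0).map
        ((Scheme.Modules.restrictFunctor (V i).ι).map (m i b))) := inferInstance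
    haveI : IsIso ((KFlatLib.rCx (V i).ι).map
        ((HomologicalComplex.single _ (ComplexShape.up ℤ) 0).map (m i b))) :=
      (NatIso.isIso_map_iff (HomologicalComplex.singleMapHomologicalComplex
        (Scheme.Modules.restrictFunctor (V i).ι) (ComplexShape.up ℤ) 0) (m i b)).2 ‹_›
    exact (NatIso.isIso_map_iff (KFlatLib.rhoQ (V i).ι)
      ((HomologicalComplex.single _ (ComplexShape.up ℤ) 0).map (m i b))).2
        (Functor.map_isIso DerivedCategory.Q _)
  open ProjGen7 KFlatLib PerfGen7 in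
  exact supp_iff.1 ((isZero_rho_iff (V i).ι _).1
      (isZero_cones (V i).ι F i hi _ (Finset.mem_toList.2 (Finset.mem_univ i)) a)) y
      (fun hc => hc ⟨⟨y, hj⟩, rfl⟩) p

variable {C D : Type*} [Category C] [Category D] [Abelian C] [Abelian D]

/-- an additive functor killing the twists kills the terms of the cones -/
theorem isZero_term {X : Scheme.{u}} {κ : Type} (L : ℤ → X.Modules)
    (m : κ → ∀ a, L a ⟶ L (a + 1)) (hc : ∀ i j a, m i a ≫ m j (a + 1) = m j a ≫ m i (a + 1))
    (G : X.Modules ⥤ D) [G.Additive] :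
    ∀ (l : List κ) (a p : ℤ), ((p ≤ 0 ∧ -(l.length : ℤ) ≤ p) → IsZero (G.obj (L (a + l.length + p)))) →
      IsZero (G.obj ((((ProjGen7.kdOfModules L m hc).cones l).obj a).X p))
  | [], a, p, h => by
    by_cases hp : p = 0
    · subst hp
      exact (h ⟨le_rfl, by simp⟩).of_iso (G.mapIso
        (singleObjXSelf (ComplexShape.up ℤ) 0 (L a) ≪≫ eqToIso (by simp)))
    · exact G.map_isZero (isZero_single_obj_X (ComplexShape.up ℤ) 0 (L a) p hp)
  | t :: l, a, p, h => by
    let F' := (ProjGen7.kdOfModules L m hc).cones l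
    let φ : F'.obj a ⟶ F'.obj (a + 1) := F'.op t a
    show IsZero (G.obj ((CochainComplex.mappingCone φ).X p))
    have h1 : IsZero (G.obj ((F'.obj a).X (p + 1))) := isZero_term L m hc G l a (p + 1) fun hp => by
      have := h ⟨by omega, by simp; omega⟩
      rwa [show a + ((t :: l).length : ℤ) + p = a + l.length + (p + 1) by simp; ring] at this
    have h2 : IsZero (G.obj ((F'.obj (a + 1)).X p)) := isZero_term L m hc G l (a + 1) p fun hp => by
      have := h ⟨hp.1, by simp; omega⟩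
      rwa [show a + ((t :: l).length : ℤ) + p = a + 1 + l.length + p by simp; ring] at this
    rw [IsZero.iff_id_eq_zero, ← G.map_id,
      ← CochainComplex.mappingCone.id_X φ p (p + 1) rfl, G.map_add, G.map_comp, G.map_comp]
    rw [h1.eq_of_tgt (G.map _) 0, h2.eq_of_tgt (G.map _) 0, zero_comp, zero_comp, add_zero]

/-- the top term -/
theorem nonempty_top {X : Scheme.{u}} {κ : Type} (L : ℤ → X.Modules)
    (m : κ → ∀ a, L a ⟶ L (a + 1)) (hc : ∀ i j a, m i a ≫ m j (a + 1) = m j a ≫ m i (a + 1)) :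
    ∀ (l : List κ) (a : ℤ),
      Nonempty ((((ProjGen7.kdOfModules L m hc).cones l).obj a).X 0 ≅ L (a + l.length)) ∧
      ∀ p, 0 < p → IsZero ((((ProjGen7.kdOfModules L m hc).cones l).obj a).X p)
  | [], a => ⟨⟨singleObjXSelf (ComplexShape.up ℤ) 0 (L a) ≪≫ eqToIso (by simp)⟩,
      fun p hp => isZero_single_obj_X (ComplexShape.up ℤ) 0 (L a) p (by omega)⟩
  | t :: l, a => by
    let F' := (ProjGen7.kdOfModules L m hc).cones l
    let φ : F'.obj a ⟶ F'.obj (a + 1) := F'.op t a
    obtain ⟨-, hz⟩ := nonempty_top L m hc l a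
    obtain ⟨⟨e⟩, hz'⟩ := nonempty_top L m hc l (a + 1)
    refine ⟨?_, fun p hp => ?_⟩
    · show Nonempty ((CochainComplex.mappingCone φ).X 0 ≅ _)
      refine ⟨⟨(CochainComplex.mappingCone.snd φ).v 0 0 (add_zero 0),
        (CochainComplex.mappingCone.inr φ).f 0, ?_, by simp⟩ ≪≫ e ≪≫ eqToIso (by simp; ring_nf)⟩
      conv_rhs => rw [← CochainComplex.mappingCone.id_X φ 0 1 rfl]
      rw [(hz 1 one_pos).eq_of_tgt ((CochainComplex.mappingCone.fst φ).1.v 0 1 rfl) 0, zero_comp, zero_add]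
    · show IsZero ((CochainComplex.mappingCone φ).X p)
      rw [IsZero.iff_id_eq_zero, ← CochainComplex.mappingCone.id_X φ p (p + 1) rfl,
        (hz (p + 1) (by omega)).eq_of_tgt ((CochainComplex.mappingCone.fst φ).1.v p (p + 1) rfl) 0,
        (hz' p hp).eq_of_tgt ((CochainComplex.mappingCone.snd φ).v p p (add_zero p)) 0, zero_comp, zero_comp,
        add_zero]

/-- dimension shifting along a bounded acyclic complex -/
theorem isZero_top (H : ℕ → (C ⥤ D))
    (hH : ∀ (S : ShortComplex C), S.ShortExact → ∀ j, IsZero ((H j).obj S.X₂) →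
      IsZero ((H (j + 1)).obj S.X₁) → IsZero ((H j).obj S.X₃))
    (hH0 : ∀ j M, IsZero M → IsZero ((H j).obj M))
    (K : CochainComplex C ℤ) (hK : K.Acyclic) (htop : ∀ p, 0 < p → IsZero (K.X p))
    (N : ℕ) (hbot : ∀ p, p < -(N : ℤ) → IsZero (K.X p)) (i : ℕ)
    (h : ∀ k : ℕ, IsZero ((H (i + k)).obj (K.X (-(k : ℤ) - 1)))) : IsZero ((H i).obj (K.X 0)) := by
  have key : ∀ (s k : ℕ), N + 1 ≤ k + s → IsZero ((H (i + k)).obj (K.cycles (-(k : ℤ)))) := by
    intro s
    induction s with
    | zero =>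
      intro k hk
      refine hH0 _ _ ?_
      rw [IsZero.iff_id_eq_zero, ← cancel_mono (K.iCycles (-(k : ℤ)))]
      exact (hbot _ (by omega)).eq_of_tgt _ _
    | succ s ih =>
      intro k hk
      let p : ℤ := -(k : ℤ) - 1
      let q : K.X p ⟶ K.cycles (-(k : ℤ)) := K.toCycles p (-(k : ℤ))
      have hq : Epi q := by
        have := (K.exactAt_iff' p (-(k : ℤ)) (-(k : ℤ) + 1) (by simp [p]) (by simp)).1 (hK _)
        have hexact := hK (-(k : ℤ))
        rw [exactAt_iff_isZero_homology] at hexact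
        haveI : Epi (K.toCycles p (-(k : ℤ))) := by
          refine Preadditive.epi_of_cancel_zero _ fun g hg => ?_
          obtain ⟨g', hg'⟩ : ∃ g', K.homologyπ _ ≫ g' = g :=
            ⟨_, (K.homologyIsCokernel p (-(k : ℤ)) (by simp [p])).fac (CokernelCofork.ofπ g hg)
              WalkingParallelPair.one⟩
          rw [← hg', hexact.eq_of_src g' 0, comp_zero]
        infer_instance
      have w : K.iCycles p ≫ q = 0 := by
        rw [← cancel_mono (K.iCycles (-(k : ℤ))), Category.assoc, toCycles_i, iCycles_d, zero_comp]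
      let S := ShortComplex.mk (K.iCycles p) q w
      have hS : S.ShortExact := by
        haveI : Mono S.f := inferInstanceAs (Mono (K.iCycles p))
        haveI : Epi S.g := hq
        refine { exact := S.exact_of_f_is_kernel (KernelFork.IsLimit.ofι' _ _ fun {W} a ha =>
          ⟨K.liftCycles a (-(k : ℤ)) (by simp [p]) ?_, K.liftCycles_i _ _ _ _⟩) }
        have := ha =≫ K.iCycles (-(k : ℤ))
        simpa [S, q] using this
      refine hH S hS (i + k) (h k) ?_
      have e : p = -((k + 1 : ℕ) : ℤ) := by simp [p]; ring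
      show IsZero ((H (i + k + 1)).obj (K.cycles p))
      rw [e]
      exact ih (k + 1) (by omega)
  haveI : IsIso (K.iCycles (-((0 : ℕ) : ℤ))) :=
    K.isIso_iCycles _ (-((0 : ℕ) : ℤ) + 1) (by simp) ((htop _ (by simp)).eq_of_tgt _ _)
  exact (key (N + 1) 0 (by omega)).of_iso ((H (i + 0)).mapIso (asIso (K.iCycles (-((0 : ℕ) : ℤ)))).symm)

variable {n : ℕ} {T : Scheme.{u}}

/-- the projection to `P^n_ℤ` -/
abbrev toZ (n : ℕ) (T : Scheme.{u}) : KRR.PY n T ⟶ CohB1.ProjSpace n (ULift.{u} ℤ) :=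
  pullback.fst (CohB1.ProjSpace.toSpec n (ULift.{u} ℤ)) (specULiftZIsTerminal.from T)

theorem reg_twF_one (F : (KRR.PY n T).Modules) (hreg : KRR.IsRegSheaf n T F) :
    KRR.IsRegSheaf n T (KRR.twF n T 1 F) := by
  intro i hi
  let R := ULift.{u} ℤ
  let f : Fin (n + 1) → MvPolynomial (Fin (n + 1)) R := fun j => ProjGen7.coord' n R (ULift.up j)
  have hf : ∀ j, f j ∈ CohB1.polyGrading n R 1 := fun j => ProjGen7.coord'_mem n R (ULift.up j)
  let L : ℤ → (KRR.PY n T).Modules := fun b => KRR.twF n T b F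
  let μ : ∀ (_ : Fin (n + 1)) (b : ℤ), Twist.twistOver n T b ⟶ Twist.twistOver n T (b + 1) := fun j b =>
    (Scheme.Modules.pullback (toZ n T)).map (PnDual.mulHom (hf j) (d := b) (d' := b + 1) rfl)
  let m : Fin (n + 1) → ∀ b, L b ⟶ L (b + 1) := fun j b =>
    ((DCoh.tensorBi (X := KRR.PY n T)).map (μ j b)).app F
  have hc : ∀ j j' b, m j b ≫ m j' (b + 1) = m j' b ≫ m j (b + 1) := fun j j' b => by
    simp only [m, μ, ← NatTrans.comp_app, ← Functor.map_comp, ProjGen7.mulHom_comm (hf j) (hf j') b]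
  let V : Fin (n + 1) → (KRR.PY n T).Opens := fun j => toZ n T ⁻¹ᵁ Proj.basicOpen (CohB1.polyGrading n R) (f j)
  have hcov : ∀ y, ∃ j, y ∈ V j := fun y => by
    have hy : (toZ n T) y ∈ ⨆ j, PnCoh.Finite.D (CohB1.polyGrading n R) (ProjGen7.coord' n R j) :=
      ProjGen7.iSup_coord' n R ▸ TopologicalSpace.Opens.mem_top _
    obtain ⟨j, hj⟩ := TopologicalSpace.Opens.mem_iSup.1 hy
    exact ⟨j.down, hj⟩
  have hiso : ∀ j b, IsIso ((Scheme.Modules.restrictFunctor (V j).ι).map (m j b)) := fun j b => by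
    haveI := ProjGen7.isIso_restrict_mulHom (hf j) b
    haveI : IsIso ((Scheme.Modules.restrictFunctor (V j).ι).map (μ j b)) :=
      ExtShX.isIso_restrict_pull (toZ n T) _ _
    haveI := ExtShX.isIso_restrict_tensor (V j).ι F (μ j b)
    exact (NatIso.isIso_map_iff (Functor.isoWhiskerRight ((KFlatLib.tensorBiFlipIso (KRR.PY n T)).app F)
      (Scheme.Modules.restrictFunctor (V j).ι)) (μ j b)).2 ‹_›
  let a : ℤ := 1 - (i : ℤ) - ((n : ℤ) + 1)
  let l := (Finset.univ : Finset (Fin (n + 1))).toList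
  have hl : (l.length : ℤ) = (n : ℤ) + 1 := by simp [l]
  let K := ((ProjGen7.kdOfModules L m hc).cones l).obj a
  let G : ℕ → ((KRR.PY n T).Modules ⥤ _) := fun j =>
    QCoh.toAbFunctor (KRR.PY n T) ⋙ Coh.RpushAb (KRR.pr n T) j
  have hGadd : ∀ j, (G j).Additive := fun j => inferInstance
  have hbot : ∀ p : ℤ, p < -((n + 1 : ℕ) : ℤ) → IsZero (K.X p) := fun p hp =>
    isZero_term L m hc (𝟭 _) l a p fun hp' => absurd hp (by push_cast; omega)
  have hzero : IsZero ((G i).obj (K.X 0)) := by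
    refine isZero_top G ?_ (fun j M hM => by haveI := hGadd j; exact (G j).map_isZero hM) K
      (acyclic_cones L m hc V hcov hiso a)
      (nonempty_top L m hc l a).2 (n + 1) hbot i fun k => ?_
    · intro S hS j h2 h1
      obtain ⟨δ, w₁, w₂, w₃, e₁, e₂, e₃⟩ := TriCat.exists_rightDerived_ses (Coh.pushAb (KRR.pr n T))
        (QCoh.toAb_shortExact hS) j
      exact e₂.isZero_of_both_zeros (h2.eq_of_src _ _) (h1.eq_of_tgt _ _)
    · haveI := hGadd (i + k)
      refine isZero_term L m hc (G (i + k)) l a (-(k : ℤ) - 1) fun _ => ?_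
      have := hreg (i + k) (by omega)
      rw [show a + (l.length : ℤ) + (-(k : ℤ) - 1) = -(((i + k : ℕ)) : ℤ) by rw [hl]; push_cast; ring]
      exact this
  obtain ⟨⟨e⟩, -⟩ := nonempty_top L m hc l a
  refine (RegSheaf7.isZero_twF_congr (c := a + (l.length : ℤ)) (by rw [hl]; ring) i F).2 ?_
  exact hzero.of_iso ((G i).mapIso e).symm

theorem reg_twF (F : (KRR.PY n T).Modules) (hreg : KRR.IsRegSheaf n T F) :
    ∀ m : ℕ, KRR.IsRegSheaf n T (KRR.twF n T (m : ℤ) F) := by
  intro m
  induction m with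
  | zero => exact fun i hi => (RegSheaf7.isZero_twF_congr (by simp) i F).2 (hreg i hi)
  | succ m ih =>
    intro i hi
    have h1 := reg_twF_one _ ih i hi
    refine (RegSheaf7.isZero_twF_congr (c := -(i : ℤ) + 1 + (m : ℤ)) (by push_cast; ring) i F).2 ?_
    exact (RegSheaf7.isZero_twF_congr rfl i F).1 ((RegSheaf7.isZero_twF_congr rfl i _).1 h1)

theorem cl_twistOver_zero : PicF.cl (Twist.twistOver n T 0) = 1 := by
  refine (H23.PicMul.isUnit_cl (RegSheaf7.isInvertible_twistOver (n := n) (T := T) 0)).mul_left_cancel ?_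
  rw [RegSheaf7.cl_twistOver_add, mul_one, add_zero]

theorem higher_zero (F : (KRR.PY n T).Modules) (hreg : KRR.IsRegSheaf n T F) (i : ℕ) (hi : 1 ≤ i) :
    IsZero ((Coh.RpushAb (KRR.pr n T) i).obj (Coh.toAb F)) := by
  obtain ⟨e⟩ : Nonempty (KRR.twF n T 0 F ≅ F) := H23.PicMul.cl_eq_iff.1 (by
    show PicF.cl (CohB1.tensorMod _ F) = _
    rw [H23.PicMul.cl_tensor, cl_twistOver_zero, one_mul])
  exact ((RegSheaf7.isZero_twF_congr (by ring) i F).1 (reg_twF F hreg i i hi)).of_iso
    ((Coh.RpushAb (KRR.pr n T) i).mapIso ((QCoh.toAbFunctor _).mapIso e)).symm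

end Groth.Agent.CMReg7
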