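import Groth.Agent.CMReg7.Gen
import Groth.Agent.PnCoh.Chow.PullFrame
import Groth.Agent.TorsPic.Iso
import Groth.Agent.ProjX.Chart
import Groth.Agent.ProjGen7.FlatBase
import Groth.Agent.ProjGen7.RpushTwist
import Groth.Agent.RGLib.Lim8Exact
import Groth.Agent.QcqsColim.Rpush
import Groth.Agent.PerfGen7.KoszulOrth
import Groth.Agent.FComplLib.AffSysSec
import Groth.Agent.SiteBase.ModColim
import Mathlib.CategoryTheory.Limits.Constructions.Filtered

/-!
# `R^i p_* (p^*G(d)) = 0` on `P^n_T` for `i ≥ 1`, `d ≥ -n`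
-/

set_option autoImplicit false
set_option linter.style.haveILetI false
set_option backward.isDefEq.respectTransparency false
set_option maxHeartbeats 800000
universe u
open CategoryTheory CategoryTheory.Limits AlgebraicGeometry TopologicalSpace Opposite
attribute [local instance] HasDerivedCategory.standard

namespace Groth.Agent.CMReg7

open Groth.Agent
open scoped Groth.Agent.H23.PicMul

variable (n : ℕ)

section pmap

variable {R R' : Type u} [CommRing R] [CommRing R'] (f : R →+* R')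

private noncomputable def crd (n : ℕ) (R : Type u) [CommRing R] (j : ULift.{u} (Fin (n + 1))) :
    MvPolynomial (Fin (n + 1)) R := MvPolynomial.X j.down

private theorem crd_mem (n : ℕ) (R : Type u) [CommRing R] (j) : crd n R j ∈ CohB1.polyGrading n R 1 :=
  ProjPt.X_mem j.down

private theorem crd_cov (n : ℕ) (R : Type u) [CommRing R] :
    ⨆ j, Proj.basicOpen (CohB1.polyGrading n R) (crd n R j) = ⊤ :=
  eq_top_iff.2 fun y _ => by
    obtain ⟨j, hj⟩ := PnCoh.Chow.cov_coord _ y
    exact Opens.mem_iSup.2 ⟨j, hj⟩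

theorem nonempty_pullback_twist_one :
    Nonempty ((Scheme.Modules.pullback (ProjX.pmap n f)).obj (Twist.twistProjSpace n R 1) ≅
      Twist.twistProjSpace n R' 1) := by
  let ψ := ProjX.pmap n f
  have hX : ∀ j, ProjX.polyHom n f (crd n R j) = crd n R' j := fun j => MvPolynomial.map_X f j.down
  have hpre : ∀ j, ψ ⁻¹ᵁ Proj.basicOpen (CohB1.polyGrading n R) (crd n R j) =
      Proj.basicOpen (CohB1.polyGrading n R') (crd n R' j) := fun j => by
    show Proj.map _ _ ⁻¹ᵁ _ = _
    rw [Proj.map_preimage_basicOpen, hX]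
  refine TorsPic.nonempty_iso_of_frames (fun j => Proj.basicOpen (CohB1.polyGrading n R') (crd n R' j))
    (fun y => Opens.mem_iSup.1 ((crd_cov n R').ge (Set.mem_univ y)))
    (fun j => AModX.res _ (hpre j).ge (PnCoh.Chow.pFrame ψ (crd_mem n R j) 1))
    (fun j => (PnCoh.Chow.isFrame_pFrame ψ (crd_mem n R j) 1).res _)
    (fun j => PnCoh.Chow.twF (crd_mem n R' j) 1) (fun j => PnCoh.Chow.isFrame_twF (crd_mem n R' j) 1)
    fun a b W ha hb g hg => ?_
  rw [AModX.res_res, AModX.res_res] at hg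
  have e := PnCoh.Chow.res_pFrame ψ (crd_mem n R a) (crd_mem n R b) 1 (W := W)
    (ha.trans (hpre a).ge) (hb.trans (hpre b).ge)
  rw [pow_one] at e
  have hg' : g = ProjUPX.ratioOf ψ (crd_mem n R b) (crd_mem n R a) (ha.trans (hpre a).ge) :=
    (PnCoh.Chow.isFrame_pFrame ψ (crd_mem n R a) 1).coord_unique (ha.trans (hpre a).ge) (hg.symm.trans e)
  have e' := PnCoh.Chow.res_twF (crd_mem n R' a) (crd_mem n R' b) 1 (W := W) ha hb
  rw [pow_one] at e'
  rw [hg']
  refine e'.trans ?_
  congr 1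
  let fh := ProjX.polyHom n f
  have hb1 : crd n R' b ∈ CohB1.polyGrading n R' 1 := crd_mem n R' b
  have hle : W ≤ Proj.basicOpen (CohB1.polyGrading n R') (fh (crd n R a)) := by rw [hX]; exact ha
  have h1 := congr($(Proj.awayToSection_comp_appLE fh (ProjX.irrelevant_polyHom n f) (crd_mem n R a)).hom
    (HomogeneousLocalization.Away.mk (CohB1.polyGrading n R) (crd_mem n R a) 1 (crd n R b)
      (by rw [one_smul]; exact crd_mem n R b)))
  simp only [CommRingCat.hom_comp, RingHom.coe_comp, Function.comp_apply, CommRingCat.hom_ofHom,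
    HomogeneousLocalization.Away.map_mk] at h1
  have h2 := congrArg (AModX.resR hle) h1
  rw [ProjUPX.ratioOf]
  have h3 : ∀ (u : MvPolynomial (Fin (n + 1)) R') (hu : u ∈ CohB1.polyGrading n R' 1) (v : MvPolynomial (Fin (n + 1)) R')
      (hv : v ∈ CohB1.polyGrading n R' 1) (hW : W ≤ Proj.basicOpen (CohB1.polyGrading n R') u)
      (hu' : u = crd n R' a) (hv' : v = crd n R' b),
      AModX.resR hW ((Proj.awayToSection (CohB1.polyGrading n R') u).hom
        (HomogeneousLocalization.Away.mk (CohB1.polyGrading n R') hu 1 v (by rwa [one_smul]))) =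
      AModX.resR ha (PnCoh.Chow.sRatio (crd_mem n R' b) (crd_mem n R' a)) := by
    rintro u hu v hv hW rfl rfl; rfl
  refine (h3 _ (fh.2 (crd_mem n R a)) _ (fh.2 (crd_mem n R b)) hle (hX a) (hX b)).symm.trans (h2.symm.trans ?_)
  exact (congr($(ψ.appLE_map (U := Proj.basicOpen (CohB1.polyGrading n R) (crd n R a))
    (V := Proj.basicOpen (CohB1.polyGrading n R') (fh (crd n R a))) (V' := W) le_rfl (homOfLE hle).op).hom _) : _)

theorem nonempty_pullback_twist (d : ℤ) :
    Nonempty ((Scheme.Modules.pullback (ProjX.pmap n f)).obj (Twist.twistProjSpace n R d) ≅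
      Twist.twistProjSpace n R' d) := by
  let φ : ℤ → PicF.Cl (CohB1.ProjSpace n R') := fun d =>
    PicF.pullCl (ProjX.pmap n f) (PicF.cl (Twist.twistProjSpace n R d))
  let χ : ℤ → PicF.Cl (CohB1.ProjSpace n R') := fun d => PicF.cl (Twist.twistProjSpace n R' d)
  have hφ : ∀ a b, φ a * φ b = φ (a + b) := fun a b => by
    rw [← H23.PicMul.pullCl_mul, ← H23.PicMul.cl_tensor]
    exact congrArg _ (H23.PicMul.cl_eq_iff.2
      (PnCoh.Finite.twist_tensor_iso (crd n R) (crd_mem n R) (crd_cov n R) a b))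
  have hχ : ∀ a b, χ a * χ b = χ (a + b) := fun a b => by
    rw [← H23.PicMul.cl_tensor]
    exact H23.PicMul.cl_eq_iff.2 (PnCoh.Finite.twist_tensor_iso (crd n R') (crd_mem n R') (crd_cov n R') a b)
  have h1 : φ 1 = χ 1 := H23.PicMul.cl_eq_iff.2 (nonempty_pullback_twist_one n f)
  have hu : IsUnit (χ 1) :=
    H23.PicMul.isUnit_cl (PnCoh.Finite.isInvertible_twist (crd n R') (crd_mem n R') (crd_cov n R') 1)
  have key : ∀ d, φ d = χ d := fun d => by
    induction d using Int.induction_on with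
    | zero =>
      refine hu.mul_right_cancel ?_
      conv_lhs => rw [← h1, hφ, zero_add, h1]
      rw [hχ, zero_add]
    | succ k ih => rw [← hφ, ih, h1, hχ]
    | pred k ih =>
      refine hu.mul_right_cancel ?_
      conv_lhs => rw [← h1, hφ, sub_add_cancel, ih]
      rw [hχ, sub_add_cancel]
  exact H23.PicMul.cl_eq_iff.1 (key d)

end pmap

/-- vanishing from affine pieces -/
theorem isZero_RpushAb_of_affines {X S : Scheme.{u}} (f : X ⟶ S) [QuasiCompact f] [QuasiSeparated f]
    {M : X.Modules} (hM : Coh.IsQCoh M) (q : ℕ)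
    (h : ∀ V : S.Opens, IsAffineOpen V → Subsingleton (Coh.HH _ (M.restrict (f ⁻¹ᵁ V).ι) (q + 1))) :
    IsZero ((Coh.RpushAb f (q + 1)).obj (Coh.toAb M)) := by
  haveI : HasInjectiveResolutions X.Modules := KFlatLib.hasInjectiveResolutions_modules
  obtain ⟨e⟩ := QCoh.nonempty_RpushAb_iso f M q
  obtain ⟨e'⟩ := QCoh.nonempty_Rpush_iso f M q
  refine IsZero.of_iso ((QCoh.toAbFunctor S).map_isZero ?_) (e ≪≫ (QCoh.toAbFunctor S).mapIso e'.symm)
  refine QCoh.isZero_of_app_eq_zero (QCoh.isQCoh_Rpush f hM (q + 1)) fun V x => ?_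
  obtain ⟨a⟩ := QCoh.nonempty_sections_HH (f := f) hM V.2 (q + 1)
  haveI := h V.1 V.2
  exact a.injective (Subsingleton.elim _ _)

section affine

variable (A : Type u) [CommRing A]

theorem flat_toSpec : Flat (CohB1.ProjSpace.toSpec n A) :=
  MorphismProperty.of_isPullback (ProjX.isPullback_pmap n (ProjX.zto A)) (ProjGen7.flat_toSpec_int n)

/-- `M ↦ O(d) ⊗ q^*M~` -/
noncomputable abbrev pullTwist (d : ℤ) : ModuleCat.{u} A ⥤ (CohB1.ProjSpace n A).Modules :=
  tilde.functor (CommRingCat.of A) ⋙ Scheme.Modules.pullback (CohB1.ProjSpace.toSpec n A) ⋙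
    (DCoh.tensorBi (X := CohB1.ProjSpace n A)).obj (Twist.twistProjSpace n A d)

theorem isZero_RpushAb_pullTwist (d : ℤ) (hd : -(n : ℤ) ≤ d) (M : ModuleCat.{u} A) (q : ℕ) :
    IsZero ((Coh.RpushAb (CohB1.ProjSpace.toSpec n A) (q + 1)).obj (Coh.toAb ((pullTwist n A d).obj M))) := by
  let π := CohB1.ProjSpace.toSpec n A
  let P := CohB1.ProjSpace n A
  let L := Twist.twistProjSpace n A d
  haveI : IsProper π := PnCoh.Chow.isProper_toSpec n A
  haveI : Flat π := flat_toSpec n A
  haveI : PreservesFiniteLimits (Scheme.Modules.pullback π) := RGLib.Lim8.preservesFiniteLimits_pullback π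
  haveI : (Scheme.Modules.pullback π).IsLeftAdjoint :=
    (Scheme.Modules.pullbackPushforwardAdjunction π).isLeftAdjoint
  have hL : PicF.IsInvertible L := PnCoh.Finite.isInvertible_twist (crd n A) (crd_mem n A) (crd_cov n A) d
  haveI := AmpleVan.isEquivalence_tw hL
  haveI : ((DCoh.tensorBi (X := P)).obj L).IsEquivalence :=
    Functor.isEquivalence_of_iso ((KFlatLib.tensorBiFlipIso P).app L : AmpleVan.tw L ≅ _)
  let K := pullTwist n A d
  haveI : PreservesFiniteLimits K := inferInstance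
  haveI : K.Additive := Functor.additive_of_preserves_binary_products _
  let G : ℕ → (P.Modules ⥤ _) := fun j => QCoh.toAbFunctor P ⋙ Coh.RpushAb π j
  have hqc : ∀ N, Coh.IsQCoh (K.obj N) := fun N =>
    KFlatLib.isQCoh_tensor (ProjUPX.isQCoh_of_isInvertible hL)
      (QCoh.isQCoh_pullback π (FComplLib.isQCoh_tilde N))
  have hbound : ∀ j, n ≤ j → ∀ N, IsZero ((G (j + 1)).obj (K.obj N)) := fun j hj N => by
    refine isZero_RpushAb_of_affines π (hqc N) j fun V hV => ?_
    haveI : IsAffine (V : Scheme.{u}) := hV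
    haveI : P.IsSeparated := ⟨by rw [← terminal.comp_from π]; infer_instance⟩
    haveI : ((π ⁻¹ᵁ V : P.Opens) : Scheme.{u}).IsSeparated :=
      ⟨by rw [← terminal.comp_from (π ⁻¹ᵁ V).ι]; infer_instance⟩
    haveI : IsAffineHom (π ⁻¹ᵁ V).ι := by
      haveI : IsAffineHom V.ι := inferInstance
      exact MorphismProperty.of_isPullback (isPullback_morphismRestrict π V) ‹IsAffineHom V.ι›
    refine QCoh.HH_subsingleton_of_cover (n + 1)
      (fun i => (π ⁻¹ᵁ V).ι ⁻¹ᵁ Proj.basicOpen (CohB1.polyGrading n A) (crd n A ⟨i⟩))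
      (fun i => (Proj.isAffineOpen_basicOpen _ _ (crd_mem n A ⟨i⟩) one_pos).preimage _)
      (eq_top_iff.2 fun y _ => by
        obtain ⟨i, hi⟩ := Opens.mem_iSup.1 ((crd_cov n A).ge (Set.mem_univ ((π ⁻¹ᵁ V).ι y)))
        exact Opens.mem_iSup.2 ⟨i.down, hi⟩)
      (fun V W hV hW => hV.inf hW) (QCoh.isQCoh_restrict _ (hqc N)) (j + 1) (by omega)
  have hself : ∀ j, IsZero ((G (j + 1)).obj (K.obj (ModuleCat.of A A))) := fun j => by
    refine IsZero.of_iso ?_ ((G (j + 1)).mapIso (((DCoh.tensorBi (X := P)).obj L).mapIso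
      ((Scheme.Modules.pullback π).mapIso tildeSelf ≪≫ (PicClLib.nonempty_pullback_structureModule π).some) ≪≫
      (H23.PicMul.unit L).some))
    haveI : HasInjectiveResolutions P.Modules := KFlatLib.hasInjectiveResolutions_modules
    obtain ⟨e⟩ := QCoh.nonempty_RpushAb_iso π L j
    obtain ⟨e'⟩ := QCoh.nonempty_Rpush_iso π L j
    exact IsZero.of_iso ((QCoh.toAbFunctor _).map_isZero
      (ProjGen7.isZero_Rpush_succ π (ProjUPX.isQCoh_of_isInvertible hL) j
        (Groth.Agent.S0844.result A n d (j + 1) (fun h => Nat.succ_ne_zero j h.1) (fun h => by omega))))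
      (e ≪≫ (QCoh.toAbFunctor _).mapIso e'.symm)
  have hfree : ∀ j (ι : Type u), IsZero ((G (j + 1)).obj (K.obj (∐ fun _ : ι => ModuleCat.of A A))) := by
    intro j ι
    let F := G (j + 1)
    let f : ι → ModuleCat.{u} A := fun _ => ModuleCat.of A A
    have hc := CoproductsFromFiniteFiltered.isColimitFiniteSubproductsCocone f
    haveI := QcqsColim.preservesColimitsOfShape_RpushAb π (j + 1) (Finset (Discrete ι))
    haveI := SiteBase.preservesColimitsOfSize_toSheaf P.ringCatSheaf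
    haveI : PreservesColimitsOfShape (Finset (Discrete ι)) (QCoh.toAbFunctor P) :=
      inferInstanceAs (PreservesColimitsOfShape _ (SheafOfModules.toSheaf P.ringCatSheaf))
    haveI h1 : PreservesColimitsOfShape (Finset (Discrete ι)) (tilde.functor (CommRingCat.of A)) :=
      (tilde.adjunction (R := CommRingCat.of A)).leftAdjoint_preservesColimits.1
    haveI h2 : PreservesColimitsOfShape (Finset (Discrete ι)) (Scheme.Modules.pullback π) :=
      (Scheme.Modules.pullbackPushforwardAdjunction π).leftAdjoint_preservesColimits.1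
    haveI h3 : PreservesColimitsOfShape (Finset (Discrete ι)) ((DCoh.tensorBi (X := P)).obj L) :=
      ((DCoh.tensorBi (X := P)).obj L).asEquivalence.toAdjunction.leftAdjoint_preservesColimits.1
    haveI : PreservesColimitsOfShape (Finset (Discrete ι)) K :=
      have := comp_preservesColimitsOfShape (J := Finset (Discrete ι)) (Scheme.Modules.pullback π) ((DCoh.tensorBi (X := P)).obj L)
      comp_preservesColimitsOfShape (tilde.functor (CommRingCat.of A)) _
    haveI : PreservesColimit (CoproductsFromFiniteFiltered.liftToFinsetObj (Discrete.functor f))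
        (K ⋙ QCoh.toAbFunctor P ⋙ Coh.RpushAb π (j + 1)) :=
      PreservesColimitsOfShape.preservesColimit
    have hc' := isColimitOfPreserves (K ⋙ QCoh.toAbFunctor P ⋙ Coh.RpushAb π (j + 1)) hc
    rw [IsZero.iff_id_eq_zero]
    refine hc'.hom_ext fun s => ?_
    refine (IsZero.eq_of_src ?_ _ _)
    show IsZero ((K ⋙ G (j + 1)).obj (∐ fun x : s => f x.1.as))
    rw [IsZero.iff_id_eq_zero]
    refine (isColimitCofanMkObjOfIsColimit (K ⋙ G (j + 1)) _ _ (coproductIsCoproduct _)).hom_ext fun x => ?_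
    exact (hself j).eq_of_src _ _
  suffices h : ∀ k j : ℕ, n ≤ j + k → ∀ N, IsZero ((G (j + 1)).obj (K.obj N)) from h n q (by omega) M
  intro k
  induction k with
  | zero => exact fun j hj => hbound j (by omega)
  | succ k ih =>
    intro j hj N
    let φ : (∐ fun _ : (N : Type u) => ModuleCat.of A A) ⟶ N :=
      Sigma.desc fun x => ModuleCat.ofHom (LinearMap.toSpanSingleton A N x)
    haveI : Epi φ := by
      rw [ModuleCat.epi_iff_surjective]
      intro x
      exact ⟨Sigma.ι (fun _ : (N : Type u) => ModuleCat.of A A) x (1 : A), by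
        rw [← ConcreteCategory.comp_apply, Sigma.ι_desc]; simp⟩
    have hS : (ShortComplex.mk (kernel.ι φ) φ (kernel.condition φ)).ShortExact :=
      { exact := ShortComplex.exact_kernel φ }
    obtain ⟨δ, w₁, w₂, w₃, h₁, h₂, h₃⟩ := TriCat.exists_rightDerived_ses (Coh.pushAb π)
      (QCoh.toAb_shortExact (hS.map_of_exact K)) (j + 1)
    exact h₂.isZero_of_both_zeros ((hfree j _).eq_of_src _ _) ((ih (j + 1) (by omega) _).eq_of_tgt _ _)

end affine

variable (T : Scheme.{u})

/-- reduction to the charts `P^n_A` -/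
theorem isZero_RpushAb_of_charts {M : (KRR.PY n T).Modules} (hM : Coh.IsQCoh M) (q : ℕ)
    (h : ∀ (V : T.Opens) (hV : IsAffineOpen V),
      Subsingleton (Coh.HH (CohB1.ProjSpace n Γ(T, V)) ((Scheme.Modules.pullback (ProjX.chart n hV)).obj M) (q + 1))) :
    IsZero ((Coh.RpushAb (KRR.pr n T) (q + 1)).obj (Coh.toAb M)) := by
  let p := KRR.pr n T
  haveI : IsProper (CohB1.ProjSpace.toSpec n (ULift.{u} ℤ)) := PnCoh.Chow.isProper_toSpec n _
  haveI : IsProper p := MorphismProperty.pullback_snd _ _ inferInstance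
  refine isZero_RpushAb_of_affines p hM q fun V hV => ?_
  let A := Γ(T, V)
  let π := CohB1.ProjSpace.toSpec n A
  let c := ProjX.chart n hV
  let b : Spec A ≅ (V : Scheme.{u}) := hV.isoSpec.symm
  have hb : hV.fromSpec = b.hom ≫ V.ι := rfl
  have h₂ : IsPullback (p ⁻¹ᵁ V).ι (p ∣_ V) p V.ι := (isPullback_morphismRestrict p V).flip
  have h₃ : IsPullback c (π ≫ b.hom) p V.ι :=
    IsPullback.of_iso (ProjX.isPullback_chart n hV) (Iso.refl _) (Iso.refl _) b (Iso.refl _)
      (by simp [c]) (by simp [π]; rfl) (by simp [p]) (by rw [hb]; simp)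
  let e := h₂.isoIsPullback _ _ h₃
  have he : e.hom ≫ c = (p ⁻¹ᵁ V).ι := h₂.isoIsPullback_hom_fst _ _ h₃
  refine QCoh.subsingleton_HH_of_iso (((Scheme.Modules.restrictFunctorIsoPullback e.hom).app _ ≪≫
    (Scheme.Modules.pullbackComp e.hom c).app M ≪≫ (Scheme.Modules.pullbackCongr he).app M ≪≫
    ((Scheme.Modules.restrictFunctorIsoPullback (p ⁻¹ᵁ V).ι).app M).symm)) _ ?_
  refine QCoh.subsingleton_HH_restrict e.hom _ q ?_
  rw [Scheme.Hom.opensRange_of_isIso]
  exact ProjGen7.subsingleton_HU_top' _ _ (h V hV)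

/-- `R^i p_* = 0` for `i > n`. -/
theorem isZero_RpushAb_above {M : (KRR.PY n T).Modules} (hM : Coh.IsQCoh M) (q : ℕ) (hq : n ≤ q) :
    IsZero ((Coh.RpushAb (KRR.pr n T) (q + 1)).obj (Coh.toAb M)) := by
  refine isZero_RpushAb_of_charts n T hM q fun V hV => ?_
  let π := CohB1.ProjSpace.toSpec n Γ(T, V)
  haveI : IsProper π := PnCoh.Chow.isProper_toSpec n _
  haveI : (CohB1.ProjSpace n Γ(T, V)).IsSeparated := ⟨by rw [← terminal.comp_from π]; infer_instance⟩
  exact QCoh.HH_subsingleton_of_cover (n + 1)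
    (fun i => Proj.basicOpen (CohB1.polyGrading n Γ(T, V)) (crd n Γ(T, V) ⟨i⟩))
    (fun i => Proj.isAffineOpen_basicOpen _ _ (crd_mem n Γ(T, V) ⟨i⟩) one_pos)
    (eq_top_iff.2 fun y _ => by
      obtain ⟨i, hi⟩ := Opens.mem_iSup.1 ((crd_cov n Γ(T, V)).ge (Set.mem_univ y))
      exact Opens.mem_iSup.2 ⟨i.down, hi⟩)
    (fun V W hV hW => hV.inf hW) (QCoh.isQCoh_pullback _ hM) (q + 1) (by omega)


/-- `R^i p_*(p^*G(d)) = 0` for `i ≥ 1` and `d ≥ -n`. -/
theorem isZero_RpushAb_twF_pullback (d : ℤ) (hd : -(n : ℤ) ≤ d) (G : T.Modules) (hG : Coh.IsQCoh G) (q : ℕ) :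
    IsZero ((Coh.RpushAb (KRR.pr n T) (q + 1)).obj
      (Coh.toAb (KRR.twF n T d ((Scheme.Modules.pullback (KRR.pr n T)).obj G)))) := by
  let p := KRR.pr n T
  have hM : Coh.IsQCoh (KRR.twF n T d ((Scheme.Modules.pullback p).obj G)) :=
    KFlatLib.isQCoh_tensor (ProjUPX.isQCoh_of_isInvertible (RegSheaf7.isInvertible_twistOver d))
      (QCoh.isQCoh_pullback p hG)
  refine isZero_RpushAb_of_charts n T hM q fun V hV => ?_
  let A := Γ(T, V)
  let π := CohB1.ProjSpace.toSpec n A
  haveI : IsProper π := PnCoh.Chow.isProper_toSpec n A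
  let c := ProjX.chart n hV
  let M := KRR.twF n T d ((Scheme.Modules.pullback p).obj G)
  obtain ⟨N, ⟨eN⟩⟩ : ∃ N : ModuleCat.{u} A,
      Nonempty ((Scheme.Modules.pullback hV.fromSpec).obj G ≅ (tilde.functor A).obj N) := by
    obtain ⟨N, ⟨i⟩⟩ := QCoh.isQCoh_spec_iff.1 (QCoh.isQCoh_pullback hV.fromSpec hG)
    exact ⟨N, ⟨i.symm⟩⟩
  obtain ⟨e₁⟩ := H23.PicMul.pull c (Twist.twistOver n T d) ((Scheme.Modules.pullback p).obj G)
  obtain ⟨e₂⟩ := nonempty_pullback_twist n (ProjX.zto A) d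
  let eL : (Scheme.Modules.pullback c).obj (Twist.twistOver n T d) ≅ Twist.twistProjSpace n A d :=
    (Scheme.Modules.pullbackComp c _).app _ ≪≫
      (Scheme.Modules.pullbackCongr (ProjX.chart_fst n hV)).app _ ≪≫ e₂
  let eG : (Scheme.Modules.pullback c).obj ((Scheme.Modules.pullback p).obj G) ≅
      (Scheme.Modules.pullback π).obj ((tilde.functor A).obj N) :=
    (Scheme.Modules.pullbackComp c p).app _ ≪≫
      (Scheme.Modules.pullbackCongr (ProjX.chart_toBase n hV)).app _ ≪≫
      ((Scheme.Modules.pullbackComp π hV.fromSpec).app _).symm ≪≫ (Scheme.Modules.pullback π).mapIso eN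
  obtain ⟨e₃⟩ : Nonempty ((Scheme.Modules.pullback c).obj M ≅ (pullTwist n A d).obj N) := by
    refine ⟨?_⟩
    refine (Classical.choice (H23.PicMul.cl_eq_iff.1 ?_))
    show PicF.cl _ = PicF.cl (CohB1.tensorMod (Twist.twistProjSpace n A d) _)
    exact (H23.PicMul.cl_eq_iff.2 ⟨e₁⟩).trans ((H23.PicMul.cl_tensor _ _).trans
      ((congrArg₂ (· * ·) (H23.PicMul.cl_eq_iff.2 ⟨eL⟩) (H23.PicMul.cl_eq_iff.2 ⟨eG⟩)).trans
        (H23.PicMul.cl_tensor _ _).symm))
  have hN : Subsingleton (Coh.HH (CohB1.ProjSpace n A) ((Scheme.Modules.pullback c).obj M) (q + 1)) := by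
    refine QCoh.subsingleton_HH_of_iso e₃.symm _ ?_
    obtain ⟨a⟩ := QCoh.nonempty_HH_equiv_sections π ((QCoh.isQCoh_iff_iso e₃).1 (QCoh.isQCoh_pullback c hM)) (q + 1)
    haveI := isZero_RpushAb_pullTwist n A d hd N q
    haveI : Subsingleton (((Coh.RpushAb π (q + 1)).obj (Coh.toAb ((pullTwist n A d).obj N))).obj.obj (op ⊤)) :=
      AddCommGrpCat.subsingleton_of_isZero (((sheafToPresheaf _ _).map_isZero ‹_›).obj _)
    exact a.toEquiv.subsingleton
  exact hN

end Groth.Agent.CMReg7
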