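import Groth.Agent.CMReg7.UnitPr
import Groth.Agent.Lib.SyzygyGen

/-!
# The canonical resolution of a regular sheaf on `P^n_T`
-/

set_option autoImplicit false
set_option linter.style.haveILetI false
set_option backward.isDefEq.respectTransparency false
set_option maxHeartbeats 800000
universe u v w
open CategoryTheory CategoryTheory.Limits AlgebraicGeometry
attribute [local instance] HasDerivedCategory.standard

namespace Groth.Agent.CMReg7

open Groth.Agent
open scoped Groth.Agent.H23.PicMul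

/-- gluing short exact sequences into a resolution -/
theorem exists_resolution_of_glue {C : Type w} [Category.{v} C] [Abelian C] (X K : ℕ → C) (p : ∀ s, X s ⟶ K s)
    (j : ∀ s, K (s + 1) ⟶ X s) (w : ∀ s, j s ≫ p s = 0) (h : ∀ s, (ShortComplex.mk (j s) (p s) (w s)).ShortExact)
    {F : C} (e : K 0 ≅ F) :
    ∃ (L : ChainComplex C ℕ) (π : L ⟶ (ChainComplex.single₀ C).obj F), (∀ i, L.X i = X i) ∧ QuasiIso π := by
  obtain ⟨D, π, wπ, hX, hhom, hepi, hex⟩ := Syzygy.exists_glue X K p j w h e
  refine ⟨D, (ChainComplex.toSingle₀Equiv _ _).symm ⟨π, wπ⟩, hX, ⟨fun k => ?_⟩⟩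
  cases k with
  | zero =>
    rw [ChainComplex.quasiIsoAt₀_iff, ShortComplex.quasiIso_iff_of_zeros']
    · refine (ShortComplex.exact_and_epi_g_iff_of_iso (S₂ := ShortComplex.mk (D.d 1 0) π wπ) ?_).2 ⟨hex, hepi⟩
      refine ShortComplex.isoMk (Iso.refl _) (Iso.refl _) (Iso.refl _) ?_ ?_
      · exact (Category.id_comp _).trans (Category.comp_id _).symm
      · exact (Category.id_comp _).trans (((ChainComplex.toSingle₀Equiv_symm_apply_f_zero (C := D) π wπ).symm).trans (Category.comp_id _).symm)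
    all_goals first | rfl | exact D.shape 0 0 (by simp)
  | succ k =>
    rw [quasiIsoAt_iff_exactAt' _ _ (ChainComplex.exactAt_succ_single_obj _ _)]
    exact (HomologicalComplex.exactAt_iff_isZero_homology _ _).2 (hhom (k + 1) (by omega))

variable {n : ℕ} {T : Scheme.{u}}

local notation "P" => KRR.PY n T
local notation "push" => Scheme.Modules.pushforward (KRR.pr n T)
local notation "pull" => Scheme.Modules.pullback (KRR.pr n T)

/-- twisting -/
noncomputable abbrev twd (n : ℕ) (T : Scheme.{u}) (d : ℤ) : (KRR.PY n T).Modules ⥤ (KRR.PY n T).Modules :=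
  (DCoh.tensorBi (X := KRR.PY n T)).obj (Twist.twistOver n T d)

/-- the counit -/
noncomputable abbrev eps (F : (KRR.PY n T).Modules) :
    (pull).obj ((push).obj F) ⟶ F :=
  (Scheme.Modules.pullbackPushforwardAdjunction (KRR.pr n T)).counit.app F

theorem isZero_push_kernel (F : (KRR.PY n T).Modules) (hF : Coh.IsQCoh F) :
    IsZero ((push).obj (kernel (eps F))) := by
  let adj := Scheme.Modules.pullbackPushforwardAdjunction (KRR.pr n T)
  haveI := epi_unit (n := n) (isQCoh_push_pr hF)
  have h : adj.unit.app ((push).obj F) ≫ (push).map (eps F) = 𝟙 _ := adj.right_triangle_components F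
  haveI : IsSplitMono (adj.unit.app ((push).obj F)) := IsSplitMono.mk' ⟨_, h⟩
  haveI : IsIso (adj.unit.app ((push).obj F)) := isIso_of_epi_of_isSplitMono _
  haveI : IsIso ((push).map (eps F)) := by
    rw [show (push).map (eps F) = inv (adj.unit.app ((push).obj F)) from IsIso.eq_inv_of_hom_inv_id h]
    infer_instance
  haveI : PreservesFiniteLimits (push) := QCoh.preservesFiniteLimits_push _
  haveI : (push).Additive := Functor.additive_of_preserves_binary_products _
  have hz : (push).map (kernel.ι (eps F)) ≫ (push).map (eps F) = 0 := by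
    rw [← Functor.map_comp, kernel.condition, Functor.map_zero]
  have h0 : (push).map (kernel.ι (eps F)) = 0 := by
    rw [← cancel_mono ((push).map (eps F)), hz, zero_comp]
  haveI : Mono ((push).map (kernel.ι (eps F))) := inferInstance
  exact IsZero.of_mono_eq_zero _ h0

theorem isZero_of_reg_of_push (F : (KRR.PY n T).Modules) (hF : Coh.IsQCoh F) (hreg : KRR.IsRegSheaf n T F)
    (h : IsZero ((push).obj F)) : IsZero F := by
  haveI := epi_counit F hF hreg
  haveI : (pull).Additive := Functor.additive_of_preserves_binary_products _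
  exact IsZero.of_epi (eps F) ((pull).map_isZero h)

theorem additive_tw (d : ℤ) : (twd n T d).Additive ∧ (twd n T d).IsEquivalence := by
  haveI := AmpleVan.isEquivalence_tw (RegSheaf7.isInvertible_twistOver (n := n) (T := T) d)
  haveI : ((DCoh.tensorBi (X := KRR.PY n T)).obj (Twist.twistOver n T d)).IsEquivalence :=
    Functor.isEquivalence_of_iso ((KFlatLib.tensorBiFlipIso (KRR.PY n T)).app (Twist.twistOver n T d) :
      AmpleVan.tw (Twist.twistOver n T d) ≅ _)
  exact ⟨Functor.additive_of_preserves_binary_products _, inferInstance⟩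

theorem nonempty_twF_zero (F : (KRR.PY n T).Modules) : Nonempty (KRR.twF n T 0 F ≅ F) :=
  H23.PicMul.cl_eq_iff.1 (by
    show PicF.cl (CohB1.tensorMod _ F) = _
    rw [H23.PicMul.cl_tensor, cl_twistOver_zero, one_mul])

theorem isQCoh_twF (d : ℤ) {F : (KRR.PY n T).Modules} (hF : Coh.IsQCoh F) : Coh.IsQCoh (KRR.twF n T d F) :=
  KFlatLib.isQCoh_tensor (ProjUPX.isQCoh_of_isInvertible (RegSheaf7.isInvertible_twistOver _)) hF

theorem reg_of_iso {F G : (KRR.PY n T).Modules} (e : F ≅ G) (h : KRR.IsRegSheaf n T F) : KRR.IsRegSheaf n T G :=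
  fun i hi => (h i hi).of_iso ((Coh.RpushAb (KRR.pr n T) i).mapIso ((QCoh.toAbFunctor _).mapIso
    ((twd n T (-(i : ℤ))).mapIso e))).symm

/-- the `i`-th term of the resolution, built from `G` -/
noncomputable abbrev term (i : ℕ) (G : (KRR.PY n T).Modules) : (KRR.PY n T).Modules :=
  KRR.twF n T (-(i : ℤ)) ((pull).obj ((push).obj (KRR.twF n T (i : ℤ) G)))

/-- its map onto `G` -/
noncomputable abbrev termπ (i : ℕ) (G : (KRR.PY n T).Modules) : term i G ⟶ G :=
  (twd n T (-(i : ℤ))).map (eps (KRR.twF n T (i : ℤ) G)) ≫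
    ((RegSheaf7.twF_twF (-(i : ℤ)) (i : ℤ) 0 (neg_add_cancel _) G).some ≪≫ (nonempty_twF_zero G).some).hom

/-- the syzygies -/
noncomputable def syz (F : (KRR.PY n T).Modules) : ℕ → (KRR.PY n T).Modules
  | 0 => F
  | i + 1 => kernel (termπ i (syz F i))

section

variable (F : (KRR.PY n T).Modules) (hF : Coh.IsQCoh F) (hreg : KRR.IsRegSheaf n T F)

/-- `F_i = G_i(i)` -/
noncomputable abbrev lev (i : ℕ) : (KRR.PY n T).Modules := KRR.twF n T (i : ℤ) (syz F i)

theorem nonempty_lev_succ (i : ℕ) : Nonempty (lev F (i + 1) ≅ KRR.twF n T 1 (kernel (eps (lev F i)))) := by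
  obtain ⟨h₁, h₂⟩ := additive_tw (n := n) (T := T) (-(i : ℤ))
  haveI := h₁
  haveI := h₂
  let a : syz F (i + 1) ≅ KRR.twF n T (-(i : ℤ)) (kernel (eps (lev F i))) :=
    kernelCompMono _ _ ≪≫ (PreservesKernel.iso (twd n T (-(i : ℤ))) (eps (lev F i))).symm
  obtain ⟨b⟩ := RegSheaf7.twF_twF ((i + 1 : ℕ) : ℤ) (-(i : ℤ)) 1 (by push_cast; ring) (kernel (eps (lev F i)))
  exact ⟨(twd n T ((i + 1 : ℕ) : ℤ)).mapIso a ≪≫ b⟩

include hF hreg in
theorem lev_props : ∀ i, Coh.IsQCoh (lev F i) ∧ KRR.IsRegSheaf n T (lev F i) := by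
  intro i
  induction i with
  | zero =>
    obtain ⟨e⟩ := nonempty_twF_zero F
    exact ⟨(QCoh.isQCoh_iff_iso e).2 hF, reg_of_iso e.symm hreg⟩
  | succ i ih =>
    obtain ⟨e⟩ := nonempty_lev_succ F i
    exact ⟨(QCoh.isQCoh_iff_iso e).2 (isQCoh_twF 1
        (QCoh.isQCoh_kernel (QCoh.isQCoh_pullback _ (isQCoh_push_pr ih.1)) ih.1 _)),
      reg_of_iso e.symm (reg_kernel_counit _ ih.1 ih.2)⟩

include hF hreg in
theorem isZero_R_kernel : ∀ (q j : ℕ), q ≤ j → q ≤ n →
    IsZero ((Coh.RpushAb (KRR.pr n T) q).obj (Coh.toAb (KRR.twF n T (-(q : ℤ)) (kernel (eps (lev F j)))))) := by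
  intro q
  induction q with
  | zero =>
    intro j _ _
    obtain ⟨e⟩ := QCoh.nonempty_RpushAb_zero_iso (KRR.pr n T) (KRR.twF n T (-((0 : ℕ) : ℤ)) (kernel (eps (lev F j))))
    obtain ⟨e'⟩ := nonempty_twF_zero (kernel (eps (lev F j)))
    refine IsZero.of_iso ((QCoh.toAbFunctor T).map_isZero ?_) e
    refine IsZero.of_iso (isZero_push_kernel _ (lev_props F hF hreg j).1) ?_
    exact (push).mapIso e'
  | succ q ih =>
    intro j hqj hqn
    obtain ⟨j, rfl⟩ : ∃ k, j = k + 1 := ⟨j - 1, by omega⟩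
    obtain ⟨hq', hr'⟩ := lev_props F hF hreg (j + 1)
    haveI := epi_counit _ hq' hr'
    have hS : (ShortComplex.mk (kernel.ι (eps (lev F (j + 1)))) (eps (lev F (j + 1))) (kernel.condition _)).ShortExact :=
      { exact := ShortComplex.exact_kernel _ }
    refine (RegSheaf7.exists_seq hS (-((q + 1 : ℕ) : ℤ)) q).2.2
      (isZero_RpushAb_twF_pullback n T _ (by push_cast; omega) _ (isQCoh_push_pr hq') q) ?_
    obtain ⟨e⟩ := nonempty_lev_succ F j
    have hz : IsZero ((Coh.RpushAb (KRR.pr n T) q).obj (Coh.toAb (KRR.twF n T (-((q + 1 : ℕ) : ℤ)) (lev F (j + 1))))) :=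
      ((RegSheaf7.isZero_twF_congr (by push_cast; ring) q _).2 (ih j (by omega) (by omega))).of_iso
        ((Coh.RpushAb (KRR.pr n T) q).mapIso ((QCoh.toAbFunctor _).mapIso ((twd n T _).mapIso e)))
    exact ⟨fun a b _ => hz.eq_of_src a b⟩

include hF hreg in
theorem isZero_kernel_top : IsZero (kernel (eps (lev F n))) := by
  obtain ⟨hq, hr⟩ := lev_props F hF hreg n
  have hK : Coh.IsQCoh (kernel (eps (lev F n))) :=
    QCoh.isQCoh_kernel (QCoh.isQCoh_pullback _ (isQCoh_push_pr hq)) hq _
  refine isZero_of_reg_of_push _ hK (fun i hi => ?_) (isZero_push_kernel _ hq)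
  by_cases hin : i ≤ n
  · exact isZero_R_kernel F hF hreg i n hin hin
  · obtain ⟨k, rfl⟩ := Nat.exists_eq_add_of_le' hi
    exact isZero_RpushAb_above n T (isQCoh_twF _ hK) k (by omega)

include hF hreg in
theorem isZero_syz : ∀ i, n < i → IsZero (syz F i) := by
  intro i hi
  induction i with
  | zero => omega
  | succ i ih =>
    by_cases hin : i = n
    · subst hin
      obtain ⟨h₁, h₂⟩ := additive_tw (n := i) (T := T) (-(i : ℤ))
      haveI := h₁
      haveI := h₂
      exact ((twd i T (-(i : ℤ))).map_isZero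
        (isZero_kernel_top F hF hreg)).of_iso
          (kernelCompMono _ _ ≪≫ (PreservesKernel.iso _ (eps (lev F i))).symm)
    · have h0 := ih (by omega)
      obtain ⟨h₁, -⟩ := additive_tw (n := n) (T := T) (i : ℤ)
      obtain ⟨h₁', -⟩ := additive_tw (n := n) (T := T) (-(i : ℤ))
      haveI := h₁
      haveI := h₁'
      haveI : (push).Additive := Functor.additive_of_preserves_binary_products _
      haveI : (pull).Additive := Functor.additive_of_preserves_binary_products _
      exact IsZero.of_mono (kernel.ι (termπ i (syz F i)))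
        ((twd n T (-(i : ℤ))).map_isZero ((pull).map_isZero ((push).map_isZero ((twd n T (i : ℤ)).map_isZero h0))))

include hF hreg in
theorem exists_resolution :
    ∃ (Tm : ℕ → T.Modules) (L : ChainComplex (KRR.PY n T).Modules ℕ)
      (π : L ⟶ (ChainComplex.single₀ (KRR.PY n T).Modules).obj F),
      (∀ i, Coh.IsQCoh (Tm i)) ∧
      (∀ i, i ≤ n → Nonempty (L.X i ≅ KRR.twF n T (-(i : ℤ)) ((pull).obj (Tm i)))) ∧
      (∀ i, n < i → IsZero (L.X i)) ∧ QuasiIso π := by
  have hepi : ∀ i, Epi (termπ i (syz F i)) := fun i => by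
    obtain ⟨hq, hr⟩ := lev_props F hF hreg i
    obtain ⟨-, h₂⟩ := additive_tw (n := n) (T := T) (-(i : ℤ))
    haveI := h₂
    haveI := epi_counit _ hq hr
    exact epi_comp' ((twd n T (-(i : ℤ))).map_epi (eps (lev F i))) inferInstance
  obtain ⟨L, π, hL, hπ⟩ := exists_resolution_of_glue (fun i => term i (syz F i)) (syz F)
    (fun i => termπ i (syz F i)) (fun i => kernel.ι (termπ i (syz F i))) (fun i => kernel.condition _)
    (fun i => { exact := ShortComplex.exact_kernel _, epi_g := hepi i }) (Iso.refl F)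
  refine ⟨fun i => (push).obj (lev F i), L, π, fun i => isQCoh_push_pr (lev_props F hF hreg i).1,
    fun i _ => ⟨eqToIso (hL i)⟩, fun i hi => ?_, hπ⟩
  rw [hL i]
  obtain ⟨h₁, -⟩ := additive_tw (n := n) (T := T) (i : ℤ)
  obtain ⟨h₁', -⟩ := additive_tw (n := n) (T := T) (-(i : ℤ))
  haveI := h₁
  haveI := h₁'
  haveI : (push).Additive := Functor.additive_of_preserves_binary_products _
  haveI : (pull).Additive := Functor.additive_of_preserves_binary_products _
  exact (twd n T (-(i : ℤ))).map_isZero ((pull).map_isZero ((push).map_isZero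
    ((twd n T (i : ℤ)).map_isZero (isZero_syz F hF hreg i hi))))

end

end Groth.Agent.CMReg7
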