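import Groth.Agent.CMReg7.PullVanish

/-!
# Syzygies of regular sheaves
-/

set_option autoImplicit false
set_option backward.isDefEq.respectTransparency false
set_option linter.style.haveILetI false
universe u
open CategoryTheory CategoryTheory.Limits AlgebraicGeometry

namespace Groth.Agent.CMReg7

open Groth.Agent

variable {n : ℕ} {T : Scheme.{u}}

theorem isProper_pr : IsProper (KRR.pr n T) := by
  haveI : IsProper (CohB1.ProjSpace.toSpec n (ULift.{u} ℤ)) := PnCoh.Chow.isProper_toSpec n _
  exact MorphismProperty.pullback_snd _ _ inferInstance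

theorem isQCoh_push_pr {F : (KRR.PY n T).Modules} (hF : Coh.IsQCoh F) :
    Coh.IsQCoh ((Scheme.Modules.pushforward (KRR.pr n T)).obj F) := by
  haveI := isProper_pr (n := n) (T := T)
  exact QCoh.isQCoh_pushforward _ hF

theorem reg_pullback_one (G : T.Modules) (hG : Coh.IsQCoh G) :
    KRR.IsRegSheaf n T (KRR.twF n T 1 ((Scheme.Modules.pullback (KRR.pr n T)).obj G)) := by
  intro i hi
  obtain ⟨j, rfl⟩ := Nat.exists_eq_add_of_le' hi
  refine (RegSheaf7.isZero_twF_congr (c := -(j : ℤ)) (by push_cast; ring) (j + 1) _).2 ?_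
  by_cases hj : j ≤ n
  · exact isZero_RpushAb_twF_pullback n T _ (by omega) G hG j
  · exact isZero_RpushAb_above n T (KFlatLib.isQCoh_tensor
      (ProjUPX.isQCoh_of_isInvertible (RegSheaf7.isInvertible_twistOver _))
      (QCoh.isQCoh_pullback _ hG)) j (by omega)

/-- the kernel of `p^*p_* F ⟶ F`, twisted by one, is regular -/
theorem reg_kernel_counit (F : (KRR.PY n T).Modules) (hF : Coh.IsQCoh F) (hreg : KRR.IsRegSheaf n T F) :
    KRR.IsRegSheaf n T (KRR.twF n T 1
      (kernel ((Scheme.Modules.pullbackPushforwardAdjunction (KRR.pr n T)).counit.app F))) := by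
  have hG := reg_pullback_one (n := n) ((Scheme.Modules.pushforward (KRR.pr n T)).obj F) (isQCoh_push_pr hF)
  have he := split_push_counit F
  haveI := epi_counit F hF hreg
  revert he this
  generalize (Scheme.Modules.pullbackPushforwardAdjunction (KRR.pr n T)).counit.app F = ε
  intro he _
  change (Scheme.Modules.pullback (KRR.pr n T)).obj ((Scheme.Modules.pushforward (KRR.pr n T)).obj F) ⟶ F at ε
  have hS : (ShortComplex.mk (kernel.ι ε) ε (kernel.condition ε)).ShortExact :=
    { exact := ShortComplex.exact_kernel ε }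
  let S := ShortComplex.mk (kernel.ι ε) ε (kernel.condition ε)
  have a : KRR.IsRegSheaf n T (KRR.twF n T 1 S.X₂) := by exact hG
  have b : Epi ((Scheme.Modules.pushforward (KRR.pr n T)).map S.g) := by exact he
  have c : KRR.IsRegSheaf n T S.X₃ := by exact hreg
  have d := @RegSheaf7.regX1 n T S hS a c b
  exact d

end Groth.Agent.CMReg7
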