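import Groth.Agent.CMReg7.Syz
import Groth.Agent.CohPullLib.SectPull
import Groth.Agent.KFlatLib.Scheme.PushCoprod
import Groth.Agent.QCoh.Support

/-!
# `G ⟶ p_* p^* G` is surjective on `P^n_T`, and consequences
-/

set_option autoImplicit false
set_option linter.style.haveILetI false
set_option backward.isDefEq.respectTransparency false
set_option maxHeartbeats 800000
universe u
open CategoryTheory CategoryTheory.Limits AlgebraicGeometry TopologicalSpace Opposite
attribute [local instance] HasDerivedCategory.standard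

namespace Groth.Agent.CMReg7

open Groth.Agent
open scoped Groth.Agent.H23.PicMul

variable (n : ℕ) (A : Type u) [CommRing A]

/-- a split mono endomorphism of the free module of rank one is an iso -/
theorem isIso_of_splitMono_self {a b : ModuleCat.of A A ⟶ ModuleCat.of A A} (h : a ≫ b = 𝟙 _) : b ≫ a = 𝟙 _ := by
  have h1 : b.hom (a.hom (1 : A)) = (1 : A) := congr(($h).hom (1 : A))
  ext
  simp only [ModuleCat.hom_comp, LinearMap.comp_apply, ModuleCat.hom_id, LinearMap.id_apply]
  have e : ∀ (g : ModuleCat.of A A ⟶ ModuleCat.of A A) (x : A), g.hom x = x * g.hom (1 : A) := fun g x => by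
    have := g.hom.map_smul x (1 : A)
    rwa [smul_eq_mul, smul_eq_mul, mul_one] at this
  rw [e a (b.hom (1 : A)), mul_comm, ← e b, h1]

theorem nonempty_twist_zero :
    Nonempty (Twist.twistProjSpace n A 0 ≅ Coh.structureModule (CohB1.ProjSpace n A)) := by
  have hc : ∀ y : CohB1.ProjSpace n A, ∃ j : ULift.{u} (Fin (n + 1)),
      y ∈ Proj.basicOpen (CohB1.polyGrading n A) (MvPolynomial.X j.down) := PnCoh.Chow.cov_coord _
  have hm : ∀ j : ULift.{u} (Fin (n + 1)), (MvPolynomial.X j.down : MvPolynomial (Fin (n + 1)) A) ∈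
      CohB1.polyGrading n A 1 := fun j => ProjPt.X_mem j.down
  have hcov : (⨆ j : ULift.{u} (Fin (n + 1)), Proj.basicOpen (CohB1.polyGrading n A) (MvPolynomial.X j.down)) = ⊤ :=
    eq_top_iff.2 fun y _ => Opens.mem_iSup.2 (hc y)
  refine H23.PicMul.cl_eq_iff.1 ?_
  rw [← H23.PicMul.one_def]
  refine (H23.PicMul.isUnit_cl (PnCoh.Finite.isInvertible_twist _ hm hcov 0)).mul_left_cancel ?_
  rw [mul_one, ← H23.PicMul.cl_tensor]
  exact H23.PicMul.cl_eq_iff.2 (PnCoh.Finite.twist_tensor_iso _ hm hcov 0 0)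

/-- `tilde ⋙ π^*` -/
noncomputable abbrev pullTilde : ModuleCat.{u} A ⥤ (CohB1.ProjSpace n A).Modules :=
  tilde.functor (CommRingCat.of A) ⋙ Scheme.Modules.pullback (CohB1.ProjSpace.toSpec n A)

theorem epi_unit_tilde (M : ModuleCat.{u} A) :
    Epi ((Scheme.Modules.pullbackPushforwardAdjunction (CohB1.ProjSpace.toSpec n A)).unit.app
      ((tilde.functor (CommRingCat.of A)).obj M)) := by
  let π := CohB1.ProjSpace.toSpec n A
  let P := CohB1.ProjSpace n A
  let R := CommRingCat.of A
  haveI : IsProper π := PnCoh.Chow.isProper_toSpec n A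
  haveI : Flat π := flat_toSpec n A
  haveI : PreservesFiniteLimits (Scheme.Modules.pullback π) := RGLib.Lim8.preservesFiniteLimits_pullback π
  let adj := Scheme.Modules.pullbackPushforwardAdjunction π
  let S := Scheme.Modules.pushforward π
  let η := fun N : ModuleCat.{u} A => adj.unit.app ((tilde.functor R).obj N)
  let Ψ : ModuleCat.{u} A ⥤ (Spec R).Modules := pullTilde n A ⋙ S
  have hnat : ∀ {N N' : ModuleCat.{u} A} (f : N ⟶ N'),
      (tilde.functor R).map f ≫ η N' = η N ≫ Ψ.map f := fun f => adj.unit.naturality ((tilde.functor R).map f)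
  have hA : Epi (η (ModuleCat.of A A)) := by
    let O := Coh.structureModule (Spec R)
    obtain ⟨i⟩ := ProjGen7.nonempty_push_structure π (PnCoh.bijective_toSpecR_appTop (ι := Fin (n + 1)) (R := A))
    let X := Coh.structureModule P
    let t : (tilde.functor R).obj (ModuleCat.of A A) ≅ O := tildeSelf
    let j : Ψ.obj (ModuleCat.of A A) ≅ (tilde.functor R).obj (ModuleCat.of A A) :=
      S.mapIso ((Scheme.Modules.pullback π).mapIso t ≪≫ (PicClLib.nonempty_pullback_structureModule π).some) ≪≫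
        i.symm ≪≫ t.symm
    let k : (tilde.functor R).obj (ModuleCat.of A A) ≅ S.obj X := t ≪≫ i
    let r : Ψ.obj (ModuleCat.of A A) ⟶ (tilde.functor R).obj (ModuleCat.of A A) :=
      S.map ((Scheme.Modules.pullback π).map k.hom) ≫ S.map (adj.counit.app X) ≫ k.inv
    have hr : η (ModuleCat.of A A) ≫ r = 𝟙 _ := by
      show η _ ≫ S.map ((Scheme.Modules.pullback π).map k.hom) ≫ S.map (adj.counit.app X) ≫ k.inv = _
      rw [← Category.assoc, show η _ ≫ S.map ((Scheme.Modules.pullback π).map k.hom) = k.hom ≫ adj.unit.app (S.obj X)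
        from (adj.unit.naturality k.hom).symm, Category.assoc, adj.right_triangle_components_assoc, k.hom_inv_id]
      rfl
    let a := η (ModuleCat.of A A) ≫ j.hom
    let b := j.inv ≫ r
    have hab : a ≫ b = 𝟙 _ := by simp [a, b, hr]
    let a' := (tilde.fullyFaithfulFunctor (R := R)).preimage a
    let b' := (tilde.fullyFaithfulFunctor (R := R)).preimage b
    have ha' : (tilde.functor R).map a' = a := (tilde.fullyFaithfulFunctor (R := R)).map_preimage a
    have hb' : (tilde.functor R).map b' = b := (tilde.fullyFaithfulFunctor (R := R)).map_preimage b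
    have hba : b ≫ a = 𝟙 _ := by
      have h' : a' ≫ b' = 𝟙 _ := (tilde.fullyFaithfulFunctor (R := R)).map_injective (by rw [CategoryTheory.Functor.map_comp, ha', hb']; exact hab.trans ((tilde.functor R).map_id _).symm)
      rw [← ha', ← hb', ← CategoryTheory.Functor.map_comp, isIso_of_splitMono_self A h']; exact (tilde.functor R).map_id _
    haveI : IsSplitEpi a := IsSplitEpi.mk' ⟨b, hba⟩
    have : η (ModuleCat.of A A) = a ≫ j.inv := by simp [a]
    rw [this]
    exact epi_comp' (IsSplitEpi.epi a) inferInstance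
  have hfree : ∀ ι : Type u, Epi (η (∐ fun _ : ι => ModuleCat.of A A)) := fun ι => by
    haveI : PreservesColimitsOfShape (Discrete ι) (tilde.functor R) :=
      (tilde.adjunction (R := R)).leftAdjoint_preservesColimits.1
    haveI : PreservesColimitsOfShape (Discrete ι) (Scheme.Modules.pullback π) :=
      adj.leftAdjoint_preservesColimits.1
    haveI := KFlatLib.preservesColimitsOfShape_push_discrete (J := ι) π
    haveI : PreservesColimitsOfShape (Discrete ι) (pullTilde n A) :=
      comp_preservesColimitsOfShape (tilde.functor R) (Scheme.Modules.pullback π)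
    haveI : PreservesColimitsOfShape (Discrete ι) Ψ := comp_preservesColimitsOfShape (pullTilde n A) S
    refine ⟨fun u v huv => ?_⟩
    refine (isColimitCofanMkObjOfIsColimit Ψ _ _ (coproductIsCoproduct fun _ : ι => ModuleCat.of A A)).hom_ext
      fun x => ?_
    haveI := hA
    refine (cancel_epi (η (ModuleCat.of A A))).1 ?_
    show η _ ≫ Ψ.map (Sigma.ι _ x.as) ≫ u = η _ ≫ Ψ.map (Sigma.ι _ x.as) ≫ v
    rw [← Category.assoc, ← hnat, Category.assoc, huv, ← Category.assoc, hnat, Category.assoc]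
  let φ : (∐ fun _ : (M : Type u) => ModuleCat.of A A) ⟶ M :=
    Sigma.desc fun x => ModuleCat.ofHom (LinearMap.toSpanSingleton A M x)
  haveI : Epi φ := by
    rw [ModuleCat.epi_iff_surjective]
    intro x
    exact ⟨Sigma.ι (fun _ : (M : Type u) => ModuleCat.of A A) x (1 : A), by
      rw [← ConcreteCategory.comp_apply, Sigma.ι_desc]; simp⟩
  haveI : (pullTilde n A).Additive := by
    haveI : (Scheme.Modules.pullback π).Additive := Functor.additive_of_preserves_binary_products _
    infer_instance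
  have hS : ((ShortComplex.mk (kernel.ι φ) φ (kernel.condition φ)).map (pullTilde n A)).ShortExact :=
    ({ exact := ShortComplex.exact_kernel φ } : (ShortComplex.mk (kernel.ι φ) φ (kernel.condition φ)).ShortExact).map_of_exact _
  obtain ⟨δ, w₁, w₂, w₃, h₁, h₂, h₃⟩ := TriCat.exists_rightDerived_ses (Coh.pushAb π) (QCoh.toAb_shortExact hS) 0
  haveI := QCoh.preservesFiniteLimits_pushAb π
  have hz : IsZero ((Coh.RpushAb π 1).obj (Coh.toAb ((pullTilde n A).obj (kernel φ)))) := by
    obtain ⟨e₀⟩ := nonempty_twist_zero n A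
    refine (isZero_RpushAb_pullTwist n A 0 (by simp) (kernel φ) 0).of_iso
      ((Coh.RpushAb π 1).mapIso ((QCoh.toAbFunctor P).mapIso ?_))
    exact (((DCoh.tensorBi (X := P)).mapIso e₀).app _ ≪≫
      (((KFlatLib.tensorBiFlipIso P).app (Coh.structureModule P)).symm ≪≫ AmpleVan.twUnit).app _).symm
  haveI : Epi (Ψ.map φ) := by
    haveI := h₂.epi_f (hz.eq_of_tgt _ _)
    haveI : Epi ((QCoh.toAbFunctor (Spec R)).map (Ψ.map φ)) := by
      have hn := (Coh.pushAb π).rightDerivedZeroIsoSelf.hom.naturality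
        ((QCoh.toAbFunctor P).map ((pullTilde n A).map φ))
      exact ((MorphismProperty.epimorphisms _).arrow_mk_iso_iff
        (Arrow.isoMk ((Coh.pushAb π).rightDerivedZeroIsoSelf.app _)
          ((Coh.pushAb π).rightDerivedZeroIsoSelf.app _) hn.symm)).1 ‹_›
    haveI : (QCoh.toAbFunctor (Spec R)).Faithful :=
      inferInstanceAs (SheafOfModules.toSheaf (Spec R).ringCatSheaf).Faithful
    exact (QCoh.toAbFunctor (Spec R)).epi_of_epi_map ‹_›
  haveI := hfree M
  haveI : Epi (η (∐ fun _ : (M : Type u) => ModuleCat.of A A) ≫ Ψ.map φ) := epi_comp _ _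
  haveI : Epi ((tilde.functor R).map φ ≫ η M) := by rw [hnat]; infer_instance
  exact epi_of_epi ((tilde.functor R).map φ) (η M)

variable {A}

theorem epi_unit_spec {M : (Spec (CommRingCat.of A)).Modules} (hM : Coh.IsQCoh M) :
    Epi ((Scheme.Modules.pullbackPushforwardAdjunction (CohB1.ProjSpace.toSpec n A)).unit.app M) := by
  obtain ⟨N, ⟨i⟩⟩ := QCoh.isQCoh_spec_iff.1 hM
  haveI := epi_unit_tilde n A N
  let π := CohB1.ProjSpace.toSpec n A
  let adj := Scheme.Modules.pullbackPushforwardAdjunction π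
  have e : adj.unit.app M = i.inv ≫ adj.unit.app _ ≫
      (Scheme.Modules.pushforward π).map ((Scheme.Modules.pullback π).map i.hom) := by
    exact (Iso.eq_inv_comp i).2 (adj.unit.naturality i.hom)
  show Epi (adj.unit.app M)
  rw [e]
  exact epi_comp' inferInstance (epi_comp' ‹_› inferInstance)

section global

open Groth.Agent.CohPullLib Groth.Agent.ExistEasy

variable {n} {T : Scheme.{u}}

/-- surjectivity of pulled back sections along open charts -/
theorem surjective_unit_app_of_square {P X S T : Scheme.{u}} (c : P ⟶ X) (p : X ⟶ T) (π : P ⟶ S) (s : S ⟶ T)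
    [IsOpenImmersion c] [IsOpenImmersion s] (hsq : c ≫ p = π ≫ s) (V : T.Opens)
    (hs : s ''ᵁ (⊤ : S.Opens) = V) (hc₀ : c ''ᵁ (⊤ : P.Opens) = p ⁻¹ᵁ V) (G : T.Modules)
    (hsurj : Function.Surjective
      (((Scheme.Modules.pullbackPushforwardAdjunction π).unit.app ((Scheme.Modules.pullback s).obj G)).app ⊤)) :
    Function.Surjective (((Scheme.Modules.pullbackPushforwardAdjunction p).unit.app G).app V) := by
  intro x
  let F := (Scheme.Modules.pullback p).obj G
  let H := (Scheme.Modules.pullback s).obj G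
  have hc : (⊤ : P.Opens) ≤ c ⁻¹ᵁ (p ⁻¹ᵁ V) := fun y _ => hc₀.le ⟨y, trivial, rfl⟩
  have hfs : (⊤ : S.Opens) ≤ s ⁻¹ᵁ V := fun y _ => hs.le ⟨y, trivial, rfl⟩
  have h0 : ∀ {Y : Scheme.{u}} (M : Y.Modules) (U U' : Y.Opens) (h : U' ≤ U) (h' : U ≤ U'),
      Function.Bijective (M.presheaf.map (homOfLE h).op) := fun M U U' h h' => by
    obtain rfl := le_antisymm h h'
    exact ⟨fun a b hab => (QCoh.map_id' _ a).symm.trans (hab.trans (QCoh.map_id' _ b)), fun z => ⟨z, QCoh.map_id' _ z⟩⟩
  have hinj : Function.Injective (QCoh.pullSec c F hc) := by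
    intro a b hab
    rw [← restrictIso_res c F hc hc₀.le a, ← restrictIso_res c F hc hc₀.le b] at hab
    exact (h0 F _ _ hc₀.le hc₀.ge).1 ((ConcreteCategory.bijective_of_isIso
      (((Scheme.Modules.restrictFunctorIsoPullback c).hom.app F).app ⊤)).1 hab)
  let y := QCoh.pullSec c F hc x
  let y₁ : Γ((Scheme.Modules.pullback (π ≫ s)).obj G, ⊤) :=
    ((Scheme.Modules.pullbackCongr hsq).hom.app G).app ⊤
      (((Scheme.Modules.pullbackComp c p).hom.app G).app ⊤ y)
  let y₂ : Γ((Scheme.Modules.pullback π).obj H, ⊤) := ((Scheme.Modules.pullbackComp π s).inv.app G).app ⊤ y₁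
  obtain ⟨z, hz⟩ := hsurj y₂
  obtain ⟨w, hw⟩ : ∃ w : Γ(G, V), QCoh.pullSec s G hfs w = z := by
    obtain ⟨z', hz'⟩ := (ConcreteCategory.bijective_of_isIso
      (((Scheme.Modules.restrictFunctorIsoPullback s).hom.app G).app ⊤)).2 z
    obtain ⟨w, hw⟩ := (h0 G _ _ hs.le hs.ge).2 z'
    refine ⟨w, ?_⟩
    rw [← restrictIso_res s G hfs hs.le, ← hz', hw]
  refine ⟨w, hinj ?_⟩
  have e : QCoh.pullSec π H (W := ⊤) (V := ⊤) le_top z = y₂ := by
    rw [← hz]
    exact QCoh.map_id' _ _
  rw [← hw] at e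
  have h1 := congrArg (((Scheme.Modules.pullbackComp π s).hom.app G).app ⊤) e
  rw [ExistEasy.pullSec_comp π s G hfs le_top w] at h1
  have h2 : ((Scheme.Modules.pullbackComp π s).hom.app G).app ⊤ y₂ = y₁ :=
    congrArg (fun φ => Scheme.Modules.Hom.app φ ⊤ y₁) ((Scheme.Modules.pullbackComp π s).inv_hom_id_app G)
  rw [h2] at h1
  have h5 := ExistEasy.pullSec_congr hsq G (W := ⊤) (V := V) (show ⊤ ≤ (c ≫ p) ⁻¹ᵁ V from hc) w
  have h3 : ((Scheme.Modules.pullbackCongr hsq).hom.app G).app ⊤ (QCoh.pullSec (c ≫ p) G (show ⊤ ≤ (c ≫ p) ⁻¹ᵁ V from hc) w) =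
      ((Scheme.Modules.pullbackCongr hsq).hom.app G).app ⊤ (((Scheme.Modules.pullbackComp c p).hom.app G).app ⊤ y) :=
    h5.trans h1
  have h3' := (ConcreteCategory.bijective_of_isIso (((Scheme.Modules.pullbackCongr hsq).hom.app G).app ⊤)).1 h3
  rw [← ExistEasy.pullSec_comp c p G (U := p ⁻¹ᵁ V) le_rfl hc w] at h3'
  refine Eq.trans ?_ ((ConcreteCategory.bijective_of_isIso
    (((Scheme.Modules.pullbackComp c p).hom.app G).app ⊤)).1 h3')
  congr 1
  exact (QCoh.map_id' (homOfLE (le_refl (p ⁻¹ᵁ V))) _).symm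

/-- every section of `p^*G` over the preimage of an affine open is a pulled back section -/
theorem surjective_unit_app {G : T.Modules} (hG : Coh.IsQCoh G) {V : T.Opens} (hV : IsAffineOpen V) :
    Function.Surjective (((Scheme.Modules.pullbackPushforwardAdjunction (KRR.pr n T)).unit.app G).app V) := by
  let p := KRR.pr n T
  let A := Γ(T, V)
  let π := CohB1.ProjSpace.toSpec n A
  haveI : IsProper π := PnCoh.Chow.isProper_toSpec n A
  haveI : IsOpenImmersion (ProjX.chart n hV) :=
    MorphismProperty.of_isPullback (ProjX.isPullback_chart n hV).flip inferInstance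
  have hfr : hV.fromSpec ''ᵁ (⊤ : (Spec A).Opens) = V :=
    (Scheme.Hom.image_top_eq_opensRange _).trans hV.opensRange_fromSpec
  have hrange : ProjX.chart n hV ''ᵁ (⊤ : (CohB1.ProjSpace n A).Opens) = p ⁻¹ᵁ V := by
    refine le_antisymm ?_ fun y hy => ?_
    · rintro _ ⟨y, -, rfl⟩
      show (ProjX.chart n hV ≫ p) y ∈ V
      rw [show ProjX.chart n hV ≫ p = π ≫ hV.fromSpec from ProjX.chart_toBase n hV]
      exact hfr.le ⟨π y, trivial, rfl⟩
    · obtain ⟨v, -, hv⟩ := hfr.ge hy
      obtain ⟨z, hz, -⟩ := Scheme.exists_preimage_of_isPullback (ProjX.isPullback_chart n hV) y v hv.symm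
      exact ⟨z, trivial, hz⟩
  have hH : Coh.IsQCoh ((Scheme.Modules.pullback hV.fromSpec).obj G) := QCoh.isQCoh_pullback _ hG
  haveI := epi_unit_spec n (A := A) hH
  exact surjective_unit_app_of_square (ProjX.chart n hV) p π hV.fromSpec (ProjX.chart_toBase n hV) V hfr hrange G
    (QCoh.app_surjective_of_epi hH (QCoh.isQCoh_pushforward π (QCoh.isQCoh_pullback π hH))
      ((Scheme.Modules.pullbackPushforwardAdjunction π).unit.app _) (isAffineOpen_top _))

/-- `G ⟶ p_*p^*G` is an epimorphism. -/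
theorem epi_unit {G : T.Modules} (hG : Coh.IsQCoh G) :
    Epi ((Scheme.Modules.pullbackPushforwardAdjunction (KRR.pr n T)).unit.app G) := by
  haveI := isProper_pr (n := n) (T := T)
  let η := (Scheme.Modules.pullbackPushforwardAdjunction (KRR.pr n T)).unit.app G
  have hqc := QCoh.isQCoh_cokernel hG (QCoh.isQCoh_pushforward _ (QCoh.isQCoh_pullback (KRR.pr n T) hG)) η
  refine Abelian.epi_of_cokernel_π_eq_zero η ((IsZero.eq_of_tgt ?_) _ _)
  refine QCoh.isZero_of_app_eq_zero hqc fun V x => ?_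
  obtain ⟨y, rfl⟩ := QCoh.app_surjective_of_epi (QCoh.isQCoh_pushforward _ (QCoh.isQCoh_pullback (KRR.pr n T) hG))
    hqc (cokernel.π η) V.2 x
  obtain ⟨w, rfl⟩ := surjective_unit_app hG V.2 y
  exact congr(($(cokernel.condition η)).app V.1 w)

end global

end Groth.Agent.CMReg7
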